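import Mathlib
import Cfsg.Prelude.Def_Solvable
import Cfsg.Agent.S0205
import Cfsg.Agent.Lib.Balance.PLayer

/-!
# An abelian Sylow 2-subgroup with automizer of prime order

`Setup P e`: `P` is abelian and `C(P)` has prime index `e` in `N(P)`.  The fixed points
`fixed P = P ⊓ C(N(P))`; outside them the centralisers are 2-nilpotent.  Behaviour under quotients.
-/

set_option autoImplicit false
set_option linter.style.haveILetI false
set_option linter.unusedSectionVars false

namespace Cfsg.Agent.Lib.AbelianPrime79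

open Subgroup

universe u

variable {G : Type u} [Group G] [Finite G] {P : Sylow 2 G} {e : ℕ}

local notation "N[" P "]" => Subgroup.normalizer ((P : Subgroup G) : Set G)
local notation "C[" P "]" => Subgroup.centralizer ((P : Subgroup G) : Set G)

/-- An abelian Sylow 2-subgroup with automizer of prime order. -/
structure Setup (P : Sylow 2 G) (e : ℕ) : Prop where
  comm : ∀ x ∈ (P : Subgroup G), ∀ y ∈ (P : Subgroup G), x * y = y * x
  prime : e.Prime
  index : C[P].relIndex N[P] = e

/-- The fixed points of the automizer. -/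
def fixed (P : Sylow 2 G) : Subgroup G :=
  (P : Subgroup G) ⊓ Subgroup.centralizer (N[P] : Set G)

theorem mem_fixed {x : G} : x ∈ fixed P ↔ x ∈ (P : Subgroup G) ∧ ∀ n ∈ N[P], n * x = x * n := by
  rw [fixed, mem_inf, mem_centralizer_iff]
  rfl

theorem fixed_le : fixed P ≤ (P : Subgroup G) := inf_le_left

namespace Setup

variable (h : Setup P e)
include h

theorem le_centralizer : (P : Subgroup G) ≤ C[P] := fun x hx =>
  mem_centralizer_iff.2 fun y hy => (h.comm x hx y hy).symm

theorem odd : Odd e := by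
  haveI : Fact (Nat.Prime 2) := ⟨Nat.prime_two⟩
  rw [← Nat.not_even_iff_odd, even_iff_two_dvd]
  intro h2
  refine P.not_dvd_index (h2.trans ?_)
  rw [← h.index]
  exact (relIndex_dvd_of_le_left N[P] h.le_centralizer).trans
    ⟨_, (relIndex_mul_index (H := (P : Subgroup G)) Subgroup.le_normalizer).symm⟩

theorem three_le : 3 ≤ e := by
  have := h.prime.two_le
  obtain ⟨k, hk⟩ := h.odd
  omega

/-- An element of the normalizer outside the centralizer generates the automizer. -/
theorem exists_pow {n : G} (hn : n ∈ N[P]) (hnC : n ∉ C[P]) {m : G} (hm : m ∈ N[P]) :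
    ∃ k : ℕ, ∃ c ∈ C[P], m = n ^ k * c := by
  haveI : (C[P].subgroupOf N[P]).Normal := by
    refine ⟨fun c hc g => mem_subgroupOf.2 (mem_centralizer_iff.2 fun x hx => ?_)⟩
    have hx' : (g : G)⁻¹ * x * g ∈ (P : Subgroup G) := (mem_normalizer_iff''.1 g.2 x).1 hx
    have e1 := mem_centralizer_iff.1 (mem_subgroupOf.1 hc) _ hx'
    simp only [Subgroup.coe_mul, Subgroup.coe_inv]
    calc x * ((g : G) * c * (g : G)⁻¹) = g * ((g : G)⁻¹ * x * g * c) * (g : G)⁻¹ := by group
      _ = g * (c * ((g : G)⁻¹ * x * g)) * (g : G)⁻¹ := by rw [e1]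
      _ = g * c * (g : G)⁻¹ * x := by group
  haveI := Fact.mk h.prime
  let q : N[P] →* N[P] ⧸ C[P].subgroupOf N[P] := QuotientGroup.mk' _
  have hne : q ⟨n, hn⟩ ≠ 1 := fun e1 =>
    hnC (mem_subgroupOf.1 ((QuotientGroup.eq_one_iff _).1 e1))
  have hmem := mem_powers_of_prime_card (p := e) (show Nat.card (N[P] ⧸ C[P].subgroupOf N[P]) = e
    from h.index) hne (g' := q ⟨m, hm⟩)
  obtain ⟨k, hk⟩ := hmem
  refine ⟨k, (n ^ k)⁻¹ * m, ?_, by group⟩
  have hk' : (QuotientGroup.mk ((⟨n, hn⟩ : N[P]) ^ k) : N[P] ⧸ C[P].subgroupOf N[P]) =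
      QuotientGroup.mk ⟨m, hm⟩ := hk
  exact mem_subgroupOf.1 (QuotientGroup.eq.1 hk')

theorem exists_not_mem : ∃ n ∈ N[P], n ∉ C[P] := by
  by_contra hc
  push Not at hc
  have := h.index
  rw [relIndex_eq_one.2 hc] at this
  exact h.prime.ne_one this.symm

/-- Outside the fixed points the stabilizer in the normalizer is the centralizer. -/
theorem mem_centralizer_of_comm {n u : G} (hn : n ∈ N[P]) (hu : u ∈ (P : Subgroup G))
    (hu0 : u ∉ fixed P) (hc : n * u = u * n) : n ∈ C[P] := by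
  by_contra hnC
  refine hu0 (mem_fixed.2 ⟨hu, fun m hm => ?_⟩)
  obtain ⟨k, c, hcC, rfl⟩ := h.exists_pow hn hnC hm
  have h1 : c * u = u * c := (mem_centralizer_iff.1 hcC u hu).symm
  rw [mul_assoc, h1, ← mul_assoc, (Commute.pow_left (hc : Commute n u) k).eq, mul_assoc]

/-- The orbit of an element outside the fixed points. -/
theorem card_orbit {u : G} (hu : u ∈ (P : Subgroup G)) (hu0 : u ∉ fixed P) :
    Nat.card {v : G // ∃ n ∈ N[P], n * u * n⁻¹ = v} = e := by
  rw [← h.index]
  let f : N[P] ⧸ C[P].subgroupOf N[P] → {v : G // ∃ n ∈ N[P], n * u * n⁻¹ = v} :=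
    Quotient.lift (fun n => ⟨(n : G) * u * (n : G)⁻¹, n, n.2, rfl⟩) fun a b hab => by
      have h1 := mem_subgroupOf.1 (QuotientGroup.leftRel_apply.1 hab)
      simp only [Subgroup.coe_mul, Subgroup.coe_inv] at h1
      have h2 := mem_centralizer_iff.1 h1 u hu
      apply Subtype.ext
      show (a : G) * u * (a : G)⁻¹ = b * u * (b : G)⁻¹
      calc (a : G) * u * (a : G)⁻¹ = a * (u * ((a : G)⁻¹ * b)) * (b : G)⁻¹ := by group
        _ = a * ((a : G)⁻¹ * b * u) * (b : G)⁻¹ := by rw [h2]
        _ = b * u * (b : G)⁻¹ := by group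
  refine (Nat.card_congr (Equiv.ofBijective f ⟨?_, ?_⟩)).symm
  · rintro ⟨a⟩ ⟨b⟩ hab
    have hab' : (a : G) * u * (a : G)⁻¹ = b * u * (b : G)⁻¹ := congrArg Subtype.val hab
    refine QuotientGroup.eq.2 (mem_subgroupOf.2 ?_)
    refine h.mem_centralizer_of_comm (N[P].mul_mem (N[P].inv_mem a.2) b.2) hu hu0 ?_
    calc (a : G)⁻¹ * b * u = (a : G)⁻¹ * (b * u * (b : G)⁻¹) * b := by group
      _ = (a : G)⁻¹ * (a * u * (a : G)⁻¹) * b := by rw [hab']
      _ = u * ((a : G)⁻¹ * b) := by group
  · rintro ⟨_, n, hn, rfl⟩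
    exact ⟨QuotientGroup.mk ⟨n, hn⟩, rfl⟩

/-- Outside the fixed points the centralizer has a normal 2-complement. -/
theorem solvable_centralizer {u : G} (hu : u ∈ (P : Subgroup G)) (hu0 : u ∉ fixed P) :
    Group.IsSolvable ↥(centralizer ({u} : Set G)) := by
  haveI : Fact (Nat.Prime 2) := ⟨Nat.prime_two⟩
  have hle : (P : Subgroup G) ≤ centralizer ({u} : Set G) := fun x hx =>
    mem_centralizer_singleton_iff.2 (h.comm x hx u hu)
  set X := centralizer ({u} : Set G) with hX
  let R : Sylow 2 X := P.subtype hle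
  have hR : Subgroup.normalizer ((R : Subgroup X) : Set X) ≤
      Subgroup.centralizer ((R : Subgroup X) : Set X) := by
    intro n hn
    have hnN : (n : G) ∈ N[P] := by
      refine mem_normalizer_iff.2 fun x => ⟨fun hx => ?_, fun hx => ?_⟩
      · exact (mem_normalizer_iff.1 hn ⟨x, hle hx⟩).1 hx
      · have hxX : x ∈ X := by
          simpa [mul_assoc] using mul_mem (mul_mem (inv_mem n.2) (hle hx)) n.2
        exact (mem_normalizer_iff.1 hn ⟨x, hxX⟩).2 hx
    have hnC := h.mem_centralizer_of_comm hnN hu hu0 (mem_centralizer_singleton_iff.1 n.2)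
    exact mem_centralizer_iff.2 fun x hx => Subtype.ext (mem_centralizer_iff.1 hnC _ hx)
  haveI : Group.IsSolvable (MonoidHom.transferSylow R hR).ker :=
    Cfsg.Agent.S0205.result (Nat.not_even_iff_odd.1 fun hev =>
      MonoidHom.not_dvd_card_ker_transferSylow R hR hev.two_dvd)
  haveI : Group.IsSolvable ↥(R : Subgroup X) := Group.isSolvable_of_comm fun a b =>
    Subtype.ext (Subtype.ext (h.comm _ a.2 _ b.2))
  exact Group.isSolvable_of_ker_le_range (MonoidHom.transferSylow R hR).ker.subtype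
    (MonoidHom.transferSylow R hR) (by rw [Subgroup.range_subtype])

/-- Fusion of a fixed element is trivial. -/
theorem eq_of_conj_mem {x g : G} (hx : x ∈ fixed P) (hg : g * x * g⁻¹ ∈ (P : Subgroup G)) :
    g * x * g⁻¹ = x := by
  haveI : Fact (Nat.Prime 2) := ⟨Nat.prime_two⟩
  haveI : IsMulCommutative (P : Subgroup G) :=
    ⟨⟨fun a b => Subtype.ext (h.comm a a.2 b b.2)⟩⟩
  obtain ⟨n, hn, he⟩ := Sylow.conj_eq_normalizer_conj_of_mem P x g⁻¹ (fixed_le hx)
    (by rwa [inv_inv])
  rw [inv_inv] at he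
  rw [he, mul_assoc, ← (mem_fixed.1 hx).2 n hn, inv_mul_cancel_left]

/-- Passing to a quotient that does not change the automizer. -/
theorem quotient {H : Type u} [Group H] [Finite H] [Fact (Nat.Prime 2)] (f : G →* H)
    (hf : Function.Surjective f)
    (hN : N[P].map f = Subgroup.normalizer ((P.mapSurjective hf : Subgroup H) : Set H))
    (hC : ∀ n ∈ N[P], (∀ x ∈ (P : Subgroup G), f n * f x = f x * f n) → n ∈ C[P]) :
    Setup (P.mapSurjective hf) e where
  comm := by
    rintro _ ⟨a, ha, rfl⟩ _ ⟨b, hb, rfl⟩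
    rw [← map_mul, ← map_mul, h.comm a ha b hb]
  prime := h.prime
  index := by
    rw [← hN, ← relIndex_comap, ← h.index, ← inf_relIndex_right, ← inf_relIndex_right C[P]]
    congr 1
    ext n
    simp only [mem_inf, mem_comap]
    constructor
    · rintro ⟨h1, hn⟩
      exact ⟨hC n hn fun x hx => (mem_centralizer_iff.1 h1 _ ⟨x, hx, rfl⟩).symm, hn⟩
    · rintro ⟨h1, hn⟩
      refine ⟨mem_centralizer_iff.2 ?_, hn⟩
      rintro _ ⟨x, hx, rfl⟩
      rw [← map_mul, ← map_mul, mem_centralizer_iff.1 h1 x hx]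

end Setup

end Cfsg.Agent.Lib.AbelianPrime79
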