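import Cfsg.Agent.Lib.SL2Chars49.Counts
import Cfsg.Agent.Lib.PrincipalFew.SingularConst
import Cfsg.Agent.Lib.Chars82.PrincipalBlock
import Cfsg.Agent.Lib.ElemNine.Local

/-!
# The principal 2-block of `SL(2, 2^n)`

Every character of odd degree lies in the principal block, and the values at the involutions bound
the block by the order of a Sylow subgroup: `k = q`, `l = q - 1` (helper79).
-/

set_option autoImplicit false
set_option linter.style.haveILetI false
set_option linter.unusedSectionVars false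

namespace Cfsg.Agent.Lib.AbelianPrime79

open scoped ComplexConjugate
open Cfsg.Agent.Lib.Blocks
open Cfsg.Agent.Lib.Characters.Basic
open Cfsg.Agent.Lib.BrauerPairs Cfsg.Agent.Lib.BrauerPairs.Center Cfsg.Agent.Lib.BrauerPairs.Bridge
open Cfsg.Agent.Lib.BrauerPairs.Pairs Cfsg.Agent.Lib.BrauerPairs.Principal
open Cfsg.Agent.Lib.BrauerPairs.SubsectionCount

universe u

attribute [local instance] Ideal.Quotient.field

variable {X : Type u} [Group X] [Finite X] {M : Ideal Cfsg.AlgInt} [M.IsMaximal]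

local notation "C[" P "]" => Subgroup.centralizer ((P : Subgroup X) : Set X)

theorem memLocalIdeal_two_mul_div (hM : Cfsg.IsPModular 2 M) {z : ℂ} (hz : IsIntegral ℤ z)
    {d : ℕ} (hd : ¬ 2 ∣ d) : Cfsg.MemLocalIdeal M (2 * z / d) := by
  refine ⟨(2 : Cfsg.AlgInt) * ⟨z, hz⟩, (d : Cfsg.AlgInt),
    M.mul_mem_right _ (by simpa using hM.2.2), fun hdM => hd ?_, by push_cast; rfl⟩
  rw [← memLocalIdeal_natCast_iff hM]
  exact ⟨(d : Cfsg.AlgInt), 1, hdM, fun h => hM.2.1.ne_top (M.eq_top_of_isUnit_mem h isUnit_one),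
    by simp⟩

/-- An involution acts with eigenvalues `±1`. -/
theorem exists_apply_eq {g : X} (hg : g ^ 2 = 1) (χ : Cfsg.IrrCharacter X) :
    ∃ m : ℕ, (χ : X → ℂ) g = 2 * m - Cfsg.charDegree (χ : X → ℂ) := by
  classical
  by_cases h1 : g = 1
  · exact ⟨Cfsg.charDegree (χ : X → ℂ), by rw [h1, char_one_eq_degree]; ring⟩
  have hord : orderOf g = 2 := orderOf_eq_prime hg h1
  haveI := Fintype.ofFinite (Subgroup.zpowers g)
  obtain ⟨m, hm⟩ := exists_classInner_nat
    (isCharacter_comp (Subgroup.zpowers g).subtype (isCharacter_irr χ))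
    (isCharacter_one (G := Subgroup.zpowers g))
  have huniv : (Finset.univ : Finset (Subgroup.zpowers g)) =
      {1, ⟨g, Subgroup.mem_zpowers g⟩} := by
    refine (Finset.eq_univ_of_card _ ?_).symm
    rw [← Nat.card_eq_fintype_card, Nat.card_zpowers, hord, Finset.card_pair]
    exact fun h => h1 (congrArg Subtype.val h).symm
  rw [Cfsg.classInner, inv_mul_eq_iff_eq_mul₀ (Nat.cast_ne_zero.mpr Nat.card_pos.ne'),
    Nat.card_zpowers, hord, huniv, Finset.sum_pair fun h => h1 (congrArg Subtype.val h).symm] at hm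
  simp only [Pi.one_apply, map_one, mul_one, Function.comp_apply, Subgroup.coe_subtype,
    OneMemClass.coe_one, char_one_eq_degree] at hm
  exact ⟨m, by push_cast at hm; linear_combination hm⟩

variable (S : Sylow 2 X) (hsq : ∀ x ∈ (S : Subgroup X), x ^ 2 = 1)
  (hC : ∀ u ∈ (S : Subgroup X), u ≠ 1 → ∀ x : X, x * u = u * x → x ∈ (S : Subgroup X))
include hsq hC

/-- A class of odd size consists of elements of order at most two. -/
theorem sq_eq_one_of_odd_index (hS : (S : Subgroup X) ≠ ⊥) {g : X}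
    (hg : ¬ 2 ∣ (Subgroup.centralizer ({g} : Set X)).index) : g ^ 2 = 1 := by
  haveI : Fact (Nat.Prime 2) := ⟨Nat.prime_two⟩
  set C := Subgroup.centralizer ({g} : Set X) with hCdef
  obtain ⟨T⟩ : Nonempty (Sylow 2 C) := inferInstance
  let T' : Sylow 2 X := (T.2.map C.subtype).toSylow (by
    rw [Subgroup.index_map, C.range_subtype, C.ker_subtype, sup_bot_eq]
    exact Nat.prime_two.not_dvd_mul T.not_dvd_index hg)
  obtain ⟨c, hc⟩ := MulAction.exists_smul_eq X S T'
  obtain ⟨u, hu, hu1⟩ : ∃ u ∈ (S : Subgroup X), u ≠ 1 := by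
    obtain ⟨v, hv⟩ := (Subgroup.ne_bot_iff_exists_ne_one).1 hS
    exact ⟨v, v.2, fun h => hv (Subtype.ext h)⟩
  have hmem : c * u * c⁻¹ ∈ (T' : Subgroup X) := by
    rw [← hc, Sylow.coe_subgroup_smul]
    simpa using Subgroup.smul_mem_pointwise_smul u (MulAut.conj c) (S : Subgroup X) hu
  obtain ⟨t, -, ht⟩ := (show c * u * c⁻¹ ∈ (T : Subgroup C).map C.subtype from hmem)
  have hcomm : c * u * c⁻¹ * g = g * (c * u * c⁻¹) :=
    Subgroup.mem_centralizer_singleton_iff.1 (ht ▸ t.2)
  have h2 : c⁻¹ * g * c ∈ (S : Subgroup X) := hC u hu hu1 _ (by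
    calc c⁻¹ * g * c * u = c⁻¹ * (g * (c * u * c⁻¹)) * c := by group
      _ = c⁻¹ * (c * u * c⁻¹ * g) * c := by rw [hcomm]
      _ = u * (c⁻¹ * g * c) := by group)
  have h3 := hsq _ h2
  have h4 : (c⁻¹ * g * c⁻¹⁻¹) ^ 2 = 1 := by rwa [inv_inv]
  rw [conj_pow, conj_eq_one_iff] at h4
  exact h4

/-- Characters of odd degree belong to the principal block. -/
theorem mem_principalBlock_of_odd (hM : Cfsg.IsPModular 2 M) (hS : (S : Subgroup X) ≠ ⊥)
    {χ : Cfsg.IrrCharacter X} (hd : ¬ 2 ∣ Cfsg.charDegree (χ : X → ℂ)) :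
    χ ∈ Cfsg.principalBlock M X := by
  rw [Chars82.PrincipalBlock.mem_principalBlock_iff]
  intro g
  rw [Cfsg.centralChar, char_one_eq_degree]
  set d := Cfsg.charDegree (χ : X → ℂ) with hdd
  set n := (Subgroup.centralizer ({g} : Set X)).index with hn
  have hd0 : (d : ℂ) ≠ 0 := Nat.cast_ne_zero.mpr fun h => hd (by rw [h]; exact dvd_zero 2)
  have hint := isIntegral_apply (isCharacter_irr χ) g
  by_cases hg : 2 ∣ n
  · obtain ⟨t, ht⟩ := hg
    have := memLocalIdeal_two_mul_div hM (z := (t : ℂ) * ((d : ℂ) - (χ : X → ℂ) g))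
      ((isIntegral_natCast t).mul ((isIntegral_natCast d).sub hint)) hd
    convert this using 1
    rw [ht]
    push_cast
    field_simp
  · obtain ⟨m, hm⟩ := exists_apply_eq (sq_eq_one_of_odd_index S hsq hC hS hg) χ
    have := memLocalIdeal_two_mul_div hM (z := (n : ℂ) * ((d : ℂ) - m))
      ((isIntegral_natCast n).mul ((isIntegral_natCast d).sub (isIntegral_natCast m))) hd
    convert this using 1
    rw [hm]
    field_simp
    ring

/-- `k = l + 1`. -/
theorem card_eq_rank_succ (hM : Cfsg.IsPModular 2 M) (hS : (S : Subgroup X) ≠ ⊥)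
    (hN : ∀ u ∈ (S : Subgroup X), u ≠ 1 → ∀ v ∈ (S : Subgroup X), v ≠ 1 →
      ∃ n ∈ Subgroup.normalizer ((S : Subgroup X) : Set X), n * u * n⁻¹ = v) :
    Nat.card (Cfsg.principalBlock M X) =
      Cfsg.blockRank 2 (Cfsg.principalBlock M X) + 1 := by
  classical
  haveI : Fact (Nat.Prime 2) := ⟨Nat.prime_two⟩
  haveI : CharP (Res M) 2 := Bridge.charP_res hM
  have hab := ElemNine.Local.commute_of_sq hsq
  obtain ⟨R, hR⟩ := exists_orbitReps (M := M) (p := 2)
    (⟨(S : Subgroup X), princ (Res M) C[(S : Subgroup X)]⟩ : Idx (Res M) X)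
  have h := card_eq_of_free hM (top_princ S) (pairOf_princ S.2) hab
    (fun x _ u hu hu1 hx => Subgroup.mem_centralizer_iff.2 fun y hy =>
      hab y hy x (hC u hu hu1 x hx)) hR
  rw [ElemNine.Local.toSet_princ] at h
  rw [h]
  congr 1
  obtain ⟨u, hu, hu1⟩ : ∃ u ∈ (S : Subgroup X), u ≠ 1 := by
    obtain ⟨v, hv⟩ := (Subgroup.ne_bot_iff_exists_ne_one).1 hS
    exact ⟨v, v.2, fun h => hv (Subtype.ext h)⟩
  obtain ⟨r, hr, -⟩ := hR.exists_conj u hu hu1
  refine Finset.card_eq_one.2 ⟨r, Finset.eq_singleton_iff_unique_mem.2 ⟨hr, fun s hs => ?_⟩⟩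
  obtain ⟨n, hn, he⟩ := hN s (hR.mem s hs) (hR.ne_one s hs) r (hR.mem r hr) (hR.ne_one r hr)
  exact hR.unique s hs r hr n (ElemNine.Local.mem_stab_princ hn) he

/-- The values at an involution bound the block by the Sylow order. -/
theorem card_le (hM : Cfsg.IsPModular 2 M) (hS : (S : Subgroup X) ≠ ⊥)
    (hk : Nat.card (Cfsg.principalBlock M X) =
      Cfsg.blockRank 2 (Cfsg.principalBlock M X) + 1) :
    Nat.card (Cfsg.principalBlock M X) ≤ Nat.card S := by
  classical
  haveI : Fact (Nat.Prime 2) := ⟨Nat.prime_two⟩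
  haveI := Fintype.ofFinite (Cfsg.IrrCharacter X)
  obtain ⟨a, ha, -, -⟩ := PrincipalFew.exists_values hM hk
  obtain ⟨u, hu, hu1⟩ : ∃ u ∈ (S : Subgroup X), u ≠ 1 := by
    obtain ⟨v, hv⟩ := (Subgroup.ne_bot_iff_exists_ne_one).1 hS
    exact ⟨v, v.2, fun h => hv (Subtype.ext h)⟩
  have hord : orderOf u = 2 := orderOf_eq_prime (hsq u hu) hu1
  have hCu : Subgroup.centralizer ({u} : Set X) = (S : Subgroup X) := by
    ext x
    rw [Subgroup.mem_centralizer_singleton_iff]
    exact ⟨hC u hu hu1 x, fun hx => ElemNine.Local.commute_of_sq hsq x hx u hu⟩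
  have hne : ∀ χ ∈ Cfsg.principalBlock M X, a χ ≠ 0 := by
    intro χ hχ h0
    have h1 := Chars82.PrincipalBlock.mem_principalBlock_iff.1 hχ u
    rw [Cfsg.centralChar, ha χ hχ u (by rw [hord]), h0, Int.cast_zero, mul_zero, zero_div,
      sub_zero, memLocalIdeal_natCast_iff hM, hCu] at h1
    exact S.not_dvd_index h1
  set B := Finset.univ.filter fun χ : Cfsg.IrrCharacter X => χ ∈ Cfsg.principalBlock M X with hB
  have hcard : Nat.card (Cfsg.principalBlock M X) = B.card := by
    rw [← Nat.card_eq_finsetCard]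
    exact Nat.card_congr (Equiv.subtypeEquivRight fun χ => by
      simp [hB])
  have h2 := Characters.Complete.sum_irr_mul_conj u u
  rw [if_pos (IsConj.refl u), hCu] at h2
  have h3 : ∑ χ : Cfsg.IrrCharacter X, Complex.normSq ((χ : X → ℂ) u) = (Nat.card S : ℝ) := by
    have h4 : ((∑ χ : Cfsg.IrrCharacter X, Complex.normSq ((χ : X → ℂ) u) : ℝ) : ℂ) =
        ((Nat.card S : ℝ) : ℂ) := by
      rw [Complex.ofReal_sum]
      simp only [← Complex.mul_conj]
      rw [h2, Complex.ofReal_natCast]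
    exact_mod_cast h4
  rw [hcard]
  have h5 : (B.card : ℝ) ≤ Nat.card S := by
    rw [← h3, ← Finset.sum_filter_add_sum_filter_not (Finset.univ : Finset (Cfsg.IrrCharacter X))
      (fun χ => χ ∈ Cfsg.principalBlock M X), ← hB, Finset.card_eq_sum_ones, Nat.cast_sum]
    refine le_add_of_le_of_nonneg (Finset.sum_le_sum fun χ hχ => ?_)
      (Finset.sum_nonneg fun χ _ => Complex.normSq_nonneg _)
    have hχ' : χ ∈ Cfsg.principalBlock M X := (Finset.mem_filter.1 hχ).2
    rw [ha χ hχ' u (by rw [hord]), Complex.normSq_intCast, Nat.cast_one]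
    have := Int.one_le_abs (hne χ hχ')
    have h6 : (1 : ℝ) ≤ |(a χ : ℝ)| := by exact_mod_cast this
    nlinarith [abs_mul_abs_self (a χ : ℝ)]
  exact_mod_cast h5

/-- **The principal block of `SL(2, q)`, `q` even.** -/
theorem principal_SL2 (hM : Cfsg.IsPModular 2 M) {F : Type*} [Field F] [Fintype F] [DecidableEq F]
    [CharP F 2] (h4 : 4 ≤ Fintype.card F) (θ : X ≃* Matrix.SpecialLinearGroup (Fin 2) F)
    (hcard : Nat.card S = Fintype.card F)
    (hN : ∀ u ∈ (S : Subgroup X), u ≠ 1 → ∀ v ∈ (S : Subgroup X), v ≠ 1 →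
      ∃ n ∈ Subgroup.normalizer ((S : Subgroup X) : Set X), n * u * n⁻¹ = v) :
    Cfsg.blockRank 2 (Cfsg.principalBlock M X) + 1 = Nat.card S ∧
      Nat.card (Cfsg.principalBlock M X) = Nat.card S := by
  classical
  haveI : Fact (Nat.Prime 2) := ⟨Nat.prime_two⟩
  have hS : (S : Subgroup X) ≠ ⊥ := fun h => by
    have h' := hcard
    rw [show Nat.card S = Nat.card (S : Subgroup X) from rfl, h, Subgroup.card_bot] at h'
    omega
  have hk := card_eq_rank_succ S hsq hC hM hS hN
  have hle := card_le S hsq hC hM hS hk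
  set q := Fintype.card F with hq
  set SL := Matrix.SpecialLinearGroup (Fin 2) F
  have hq2 : 2 ∣ q := by
    obtain ⟨n, -, hn⟩ := FiniteField.card F 2
    rw [hq, hn]
    exact dvd_pow_self 2 n.pos.ne'
  have hrt : Fintype.card (SL2Chars49.RtT F) ≤ 1 := by
    refine Fintype.card_le_one_iff.2 fun a b => Subtype.ext ?_
    have h1 : ∀ z : F, z * z = 1 → z = 1 := fun z hz => by
      have h2 : (z - 1) * (z - 1) = 0 := by
        linear_combination hz + (1 - z) * (CharP.cast_eq_zero F 2)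
      rcases mul_eq_zero.1 h2 with h | h <;> linear_combination h
    rw [h1 _ a.2, h1 _ b.2]
  let Φ : Cfsg.IrrCharacter SL → Cfsg.IrrCharacter X := fun χ =>
    ⟨(χ : SL → ℂ) ∘ θ.toMonoidHom, isIrrCharacter_comp _ θ.surjective χ.2⟩
  have hΦ : Function.Injective Φ := fun a b h => Subtype.ext (funext fun g => by
    simpa [Φ] using congrFun (congrArg Subtype.val h) (θ.symm g))
  have hB : ∀ (χ : Cfsg.IrrCharacter SL) (d : ℕ), ¬ 2 ∣ d → (χ : SL → ℂ) 1 = d →
      Φ χ ∈ Cfsg.principalBlock M X := by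
    intro χ d hd he
    refine mem_principalBlock_of_odd S hsq hC hM hS ?_
    have h1 : (Cfsg.charDegree (Φ χ : X → ℂ) : ℂ) = d := by
      rw [← char_one_eq_degree, ← he]
      show (χ : SL → ℂ) (θ 1) = _
      rw [map_one]
    rwa [Nat.cast_injective h1]
  let f : ({χ : Cfsg.IrrCharacter SL // (χ : SL → ℂ) 1 = 1} ⊕
      {χ : Cfsg.IrrCharacter SL // (χ : SL → ℂ) 1 = (q : ℂ) + 1}) ⊕
      {χ : Cfsg.IrrCharacter SL // (χ : SL → ℂ) 1 = (q : ℂ) - 1} → Cfsg.principalBlock M X :=
    Sum.elim (Sum.elim (fun χ => ⟨Φ χ, hB χ 1 (by omega) (by rw [χ.2, Nat.cast_one])⟩)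
      (fun χ => ⟨Φ χ, hB χ (q + 1) (by omega) (by rw [χ.2]; push_cast; rfl)⟩))
      (fun χ => ⟨Φ χ, hB χ (q - 1) (by omega) (by
        rw [χ.2, Nat.cast_sub (by omega), Nat.cast_one])⟩)
  have hq0 : (q : ℂ) ≠ 0 := Nat.cast_ne_zero.mpr (by omega)
  have hq2' : (q : ℂ) ≠ 2 := by exact_mod_cast (show q ≠ 2 by omega)
  have hf : Function.Injective f := by
    intro a b h
    have h' := congrArg Subtype.val h
    rcases a with (a | a) | a <;> rcases b with (b | b) | b <;>
      have he := hΦ h' <;>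
      first
      | exact congrArg _ (Subtype.ext he)
      | exact congrArg _ (congrArg _ (Subtype.ext he))
      | (exfalso
         have hd := congrArg (fun χ : Cfsg.IrrCharacter SL => (χ : SL → ℂ) 1) he
         simp only [a.2, b.2] at hd
         first
         | exact hq0 (by linear_combination hd)
         | exact hq0 (by linear_combination -hd)
         | exact hq2' (by linear_combination hd)
         | exact hq2' (by linear_combination -hd)
         | exact absurd (show (2 : ℂ) = 0 by linear_combination hd) two_ne_zero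
         | exact absurd (show (2 : ℂ) = 0 by linear_combination -hd) two_ne_zero)
  have hlow := Nat.card_le_card_of_injective f hf
  rw [Nat.card_sum, Nat.card_sum, SL2Chars49.card_deg_one h4] at hlow
  have h1 : 2 * Nat.card {χ : Cfsg.IrrCharacter SL // (χ : SL → ℂ) 1 = (q : ℂ) + 1} +
      Fintype.card (SL2Chars49.RtT F) + 1 = q := SL2Chars49.card_deg_succ (F := F)
  have h2 : 2 * Nat.card {χ : Cfsg.IrrCharacter SL // (χ : SL → ℂ) 1 = (q : ℂ) - 1} +
      Fintype.card (SL2Chars49.RtT F) = q + 1 := SL2Chars49.card_deg_pred (F := F) h4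
  constructor <;> omega

end Cfsg.Agent.Lib.AbelianPrime79
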