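import Cfsg.Agent.Lib.AbelianPrime79.Basic
import Cfsg.Agent.Lib.SolvCentAb12.Lift
import Cfsg.Agent.Lib.PrincipalCore.Basic
import Cfsg.Agent.Lib.Characters.Linear
import Cfsg.Prelude.Def_BlockRank

/-!
# Solvable groups with trivial odd core

`X = S ⋊ E`, all characters are in the principal block and its rank is `e` (helper79).
-/

set_option autoImplicit false
set_option linter.style.haveILetI false

namespace Cfsg.Agent.Lib.AbelianPrime79

open Subgroup
open Cfsg.Agent.Lib.Characters Cfsg.Agent.Lib.Characters.Basic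

universe u

variable {X : Type u} [Group X] [Finite X] {S : Sylow 2 X} {e : ℕ}

/-- With trivial odd core a solvable group has a normal, self-centralizing Sylow subgroup. -/
theorem Setup.normal_and_index [Group.IsSolvable X] (h : Setup S e)
    (hcore : Cfsg.pPrimeCore 2 X = ⊥) : (S : Subgroup X).Normal ∧ (S : Subgroup X).index = e := by
  haveI : Fact (Nat.Prime 2) := ⟨Nat.prime_two⟩
  have hab : IsMulCommutative (S : Subgroup X) :=
    ⟨⟨fun a b => Subtype.ext (h.comm a a.2 b b.2)⟩⟩
  have hN := SolvCentAb12.sup_normalizer_eq_top S hab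
  rw [hcore, sup_bot_eq] at hN
  have hn : (S : Subgroup X).Normal := Subgroup.normalizer_eq_top_iff.1 hN
  refine ⟨hn, ?_⟩
  have hcen := SylowInter.Basic.centralizer_pCore_le (G := X) 2 hcore
  rw [Cores.pCore_eq_of_normal_sylow S] at hcen
  have h1 := h.index
  rw [le_antisymm hcen h.le_centralizer, hN, relIndex_top_right] at h1
  exact h1

/-- The rank of the principal block. -/
theorem Setup.blockRank_of_solvable [Group.IsSolvable X] (h : Setup S e)
    (hcore : Cfsg.pPrimeCore 2 X = ⊥) {M : Ideal Cfsg.AlgInt} (hM : Cfsg.IsPModular 2 M) :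
    Cfsg.blockRank 2 (Cfsg.principalBlock M X) = e := by
  classical
  haveI : Fact (Nat.Prime 2) := ⟨Nat.prime_two⟩
  haveI := Fact.mk h.prime
  haveI := Fintype.ofFinite X
  obtain ⟨hn, hidx⟩ := h.normal_and_index hcore
  haveI := hn
  have hall : ∀ χ : Cfsg.IrrCharacter X, χ ∈ Cfsg.principalBlock M X := fun χ =>
    (PrincipalCore.Basic.mem_iff_of_solvable hM PSolvable.isPSolvable_of_isSolvable).2
      fun g hg => by
        rw [hcore, Subgroup.mem_bot] at hg
        rw [hg]
  obtain ⟨E, hE⟩ := Subgroup.exists_right_complement'_of_coprime S.card_coprime_index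
  have hEcard : Nat.card E = e := by rw [← hE.symm.index_eq_card, hidx]
  haveI := Fintype.ofFinite E
  have hcop : ¬ e ∣ Nat.card S := fun hd => by
    obtain ⟨k, hk⟩ := IsPGroup.iff_card.1 S.2
    rw [hk] at hd
    exact h.odd.not_two_dvd_nat ((Nat.prime_dvd_prime_iff_eq h.prime Nat.prime_two).1
      (h.prime.dvd_of_dvd_pow hd) ▸ dvd_rfl)
  have hfac : (Nat.card X).factorization e = 1 := by
    rw [← (S : Subgroup X).card_mul_index, hidx,
      Nat.factorization_mul Nat.card_pos.ne' h.prime.ne_zero, Finsupp.add_apply,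
      Nat.factorization_eq_zero_of_not_dvd hcop, h.prime.factorization_self]
  let E' : Sylow e X := Sylow.ofCard E (by rw [hfac, pow_one, hEcard])
  have hEodd : ∀ x : E, ¬ 2 ∣ orderOf (x : X) := fun x h2 => by
    have h3 := h2.trans ((Subgroup.orderOf_coe x).dvd.trans (orderOf_dvd_natCard x))
    rw [hEcard] at h3
    exact h.odd.not_two_dvd_nat h3
  set W := Submodule.span ℂ ((fun χ : Cfsg.IrrCharacter X => Cfsg.pRegularPart 2 (χ : X → ℂ)) ''
    Cfsg.principalBlock M X) with hW
  let L : (X → ℂ) →ₗ[ℂ] (E → ℂ) := LinearMap.funLeft ℂ ℂ (fun x : E => (x : X))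
  show Module.finrank ℂ W = e
  refine le_antisymm ?_ ?_
  · -- class functions on the regular elements are determined on `E`
    have hconj : ∀ g : X, ¬ 2 ∣ orderOf g → ∃ c : X, ∃ x : E, c * g * c⁻¹ = x := by
      intro g hg
      by_cases hg1 : g = 1
      · exact ⟨1, 1, by simp [hg1]⟩
      have hge : orderOf g = e := by
        have h1 : orderOf g ∣ Nat.card S * e := by
          rw [← hidx, (S : Subgroup X).card_mul_index]
          exact orderOf_dvd_natCard g
        obtain ⟨k, hk⟩ := IsPGroup.iff_card.1 S.2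
        have h2 : Nat.Coprime (orderOf g) (Nat.card S) := by
          rw [hk]
          exact Nat.Coprime.pow_right k (Nat.coprime_two_right.2 (Nat.not_even_iff_odd.1
            fun hev => hg hev.two_dvd))
        rcases (Nat.dvd_prime h.prime).1 (h2.dvd_of_dvd_mul_left h1) with h3 | h3
        · exact absurd (orderOf_eq_one_iff.1 h3) hg1
        · exact h3
      let T : Sylow e X := Sylow.ofCard (zpowers g) (by rw [hfac, pow_one, Nat.card_zpowers, hge])
      obtain ⟨c, hc⟩ := MulAction.exists_smul_eq X T E'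
      have hmem : c * g * c⁻¹ ∈ (E' : Subgroup X) := by
        rw [← hc, Sylow.coe_subgroup_smul]
        simpa using Subgroup.smul_mem_pointwise_smul g (MulAut.conj c) (T : Subgroup X)
          (mem_zpowers g)
      exact ⟨c, ⟨_, hmem⟩, rfl⟩
    have hdet : ∀ f ∈ W, ∀ g : X, (∀ c : X, f (c * g * c⁻¹) = f g) ∧
        (2 ∣ orderOf g → f g = 0) := by
      intro f hf
      induction hf using Submodule.span_induction with
      | mem f hf =>
        obtain ⟨χ, -, rfl⟩ := hf
        intro g
        refine ⟨fun c => ?_, fun hg => ?_⟩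
        · have ho : orderOf (c * g * c⁻¹) = orderOf g := (MulAut.conj c).orderOf_eq g
          by_cases hg : 2 ∣ orderOf g <;>
            simp [Cfsg.pRegularPart, Cfsg.IsPRegular, ho, hg, isClassFunction_irr χ g c]
        · simp only [Cfsg.pRegularPart, Cfsg.IsPRegular, hg, not_true_eq_false, if_false]
      | zero => exact fun g => ⟨fun _ => rfl, fun _ => rfl⟩
      | add a b _ _ iha ihb =>
        exact fun g => ⟨fun c => by simp [(iha g).1 c, (ihb g).1 c],
          fun hg => by simp [(iha g).2 hg, (ihb g).2 hg]⟩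
      | smul r a _ iha =>
        exact fun g => ⟨fun c => by simp [(iha g).1 c], fun hg => by simp [(iha g).2 hg]⟩
    have hinj : Function.Injective (L.domRestrict W) := by
      rw [← LinearMap.ker_eq_bot, LinearMap.ker_eq_bot']
      rintro ⟨f, hf⟩ h0
      apply Subtype.ext
      funext g
      by_cases hg : 2 ∣ orderOf g
      · exact (hdet f hf g).2 hg
      · obtain ⟨c, x, hx⟩ := hconj g hg
        have := congrFun h0 x
        show f g = 0
        rw [← (hdet f hf g).1 c, hx]
        exact this
    have := LinearMap.finrank_le_finrank_of_injective hinj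
    rwa [Module.finrank_pi, ← Nat.card_eq_fintype_card, hEcard] at this
  · -- the inflated linear characters of `X ⧸ S`
    haveI : IsCyclic (X ⧸ (S : Subgroup X)) := isCyclic_of_prime_card hidx
    letI : CommGroup (X ⧸ (S : Subgroup X)) := IsCyclic.commGroup
    haveI : Finite ((X ⧸ (S : Subgroup X)) →* ℂˣ) := Finite.of_equiv _ (Linear.linEquiv _).symm
    haveI := Fintype.ofFinite ((X ⧸ (S : Subgroup X)) →* ℂˣ)
    let π := QuotientGroup.mk' (S : Subgroup X)
    let φ : ((X ⧸ (S : Subgroup X)) →* ℂˣ) → W := fun μ =>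
      ⟨Cfsg.pRegularPart 2 (Linear.linChar (μ.comp π) : X → ℂ),
        Submodule.subset_span ⟨_, hall _, rfl⟩⟩
    let ψ : ((X ⧸ (S : Subgroup X)) →* ℂˣ) → (E →* ℂ) := fun μ =>
      (Units.coeHom ℂ).comp (μ.comp (π.comp E.subtype))
    have hbij : Function.Bijective (π.comp E.subtype) := by
      refine (Nat.bijective_iff_injective_and_card _).2 ⟨(injective_iff_map_eq_one _).2 fun x hx => ?_,
        hEcard.trans hidx.symm⟩
      exact Subtype.ext (Subgroup.mem_bot.1 (disjoint_iff.1 hE.disjoint ▸
        ⟨(QuotientGroup.eq_one_iff _).1 hx, x.2⟩))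
    have hψ : Function.Injective ψ := fun a b hab => MonoidHom.ext fun y => by
      obtain ⟨x, rfl⟩ := hbij.2 y
      exact Units.ext (DFunLike.congr_fun hab x)
    have hφ : ∀ μ, (L.comp W.subtype) (φ μ) = (ψ μ : E → ℂ) := fun μ => funext fun x => by
      show Cfsg.pRegularPart 2 (Linear.linChar (μ.comp π) : X → ℂ) (x : X) = _
      simp only [Cfsg.pRegularPart, Cfsg.IsPRegular, hEodd x, not_false_eq_true, if_true]
      rfl
    have hli : LinearIndependent ℂ φ := by
      refine LinearIndependent.of_comp (L.comp W.subtype) ?_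
      rw [show (L.comp W.subtype) ∘ φ = fun μ => (ψ μ : E → ℂ) from funext hφ]
      exact (linearIndependent_monoidHom E ℂ).comp ψ hψ
    have := hli.fintype_card_le_finrank
    rwa [← Nat.card_eq_fintype_card,
      CommGroup.card_monoidHom_of_hasEnoughRootsOfUnity (X ⧸ (S : Subgroup X)) ℂ,
      show Nat.card (X ⧸ (S : Subgroup X)) = e from hidx] at this

end Cfsg.Agent.Lib.AbelianPrime79
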