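import Cfsg.Agent.Lib.AbelianPrime79.Embedded
import Cfsg.Agent.Lib.AbelianPrime79.SL2
import Cfsg.Agent.Lib.AbelianPrime79.Solvable
import Cfsg.Agent.Lib.BenderConsumers23.Socle
import Cfsg.Agent.Lib.BenderOne.Final
import Cfsg.Agent.Lib.BenderSuzuki.Main
import Cfsg.Agent.Lib.Walter.KnownFacts
import Cfsg.Agent.Lib.PrimeGraph.SL2
import Cfsg.Agent.Lib.FpfHeight.Homocyclic
import Cfsg.Agent.Lib.Homocyclic.BrauerTheorem

/-!
# No fixed points and trivial odd core

Either the group is solvable or its Sylow 2-subgroup is elementary of order `e + 1`: the four group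
by Brauer's theorem, larger ones by the Bender–Suzuki theorem, where the group is `SL(2, 2^n)`
(helper79).
-/

set_option autoImplicit false
set_option linter.style.haveILetI false

namespace Cfsg.Agent.Lib.AbelianPrime79

open Subgroup
open Cfsg.Agent.Lib.SolvCentAb12 (omega mem_omega not_isoSuzuki not_iso_PSU sq_four)

universe u

variable {X : Type u} [Group X] [Finite X] {S : Sylow 2 X} {e : ℕ}

theorem isSolvable_of_normal (hab : ∀ x ∈ (S : Subgroup X), ∀ y ∈ (S : Subgroup X), x * y = y * x)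
    [(S : Subgroup X).Normal] : Group.IsSolvable X := by
  haveI : Fact (Nat.Prime 2) := ⟨Nat.prime_two⟩
  haveI : Group.IsSolvable ↥(S : Subgroup X) :=
    Group.isSolvable_of_comm fun a b => Subtype.ext (hab a a.2 b b.2)
  haveI : Group.IsSolvable (X ⧸ (S : Subgroup X)) :=
    Cfsg.Agent.S0205.result (Nat.not_even_iff_odd.1 fun hev => S.not_dvd_index hev.two_dvd)
  exact Group.isSolvable_of_ker_le_range (S : Subgroup X).subtype
    (QuotientGroup.mk' (S : Subgroup X)) (by simp)

/-- Two copies of a cyclic group. -/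
def piTwoEquiv (n : ℕ) :
    (Fin 2 → Multiplicative (ZMod n)) ≃* Multiplicative (ZMod n × ZMod n) where
  toFun f := Multiplicative.ofAdd ((f 0).toAdd, (f 1).toAdd)
  invFun z := ![Multiplicative.ofAdd z.toAdd.1, Multiplicative.ofAdd z.toAdd.2]
  left_inv f := by funext i; fin_cases i <;> simp
  right_inv z := by simp
  map_mul' f g := rfl

namespace Setup

variable (h : Setup S e) (hfix : fixed S = ⊥)
include h hfix

theorem four_case (hns : ¬ Group.IsSolvable X) (hcore : Cfsg.pPrimeCore 2 X = ⊥)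
    (hab : IsMulCommutative (S : Subgroup X))
    (h4 : Nat.card (omega (S : Subgroup X) hab) = 4) {M : Ideal Cfsg.AlgInt}
    (hM : Cfsg.IsPModular 2 M) :
    Cfsg.blockRank 2 (Cfsg.principalBlock M X) = e ∧ Nat.card S = e + 1 := by
  classical
  haveI : Fact (Nat.Prime 2) := ⟨Nat.prime_two⟩
  haveI := hM.2.1
  haveI := Fintype.ofFinite X
  set A := omega (S : Subgroup X) hab with hA
  have hnf : ∀ u : X, u ≠ 1 → u ∉ fixed S := fun u hu hf => hu (by rwa [hfix, mem_bot] at hf)
  have horb : ∀ u ∈ A, u ≠ 1 → {v : X | ∃ n ∈ Subgroup.normalizer ((S : Subgroup X) : Set X),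
      n * u * n⁻¹ = v} ⊆ (A : Set X) \ {1} := by
    rintro u hu hu1 v ⟨n, hn, rfl⟩
    refine ⟨mem_omega.2 ⟨(mem_normalizer_iff.1 hn u).1 (mem_omega.1 hu).1, ?_⟩, ?_⟩
    · rw [conj_pow, (mem_omega.1 hu).2, mul_one, mul_inv_cancel]
    · simp only [Set.mem_singleton_iff, conj_eq_one_iff]
      exact hu1
  have hcard3 : ((A : Set X) \ {1}).ncard = 3 := by
    rw [Set.ncard_sdiff_singleton_of_mem (one_mem A), ← Nat.card_coe_set_eq]
    exact (congrArg (· - 1) h4).trans rfl
  have horbc : ∀ u ∈ A, u ≠ 1 → ({v : X | ∃ n ∈ Subgroup.normalizer ((S : Subgroup X) : Set X),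
      n * u * n⁻¹ = v}).ncard = e := fun u hu hu1 => by
    rw [← Nat.card_coe_set_eq]
    exact h.card_orbit (mem_omega.1 hu).1 (hnf u hu1)
  obtain ⟨u₀, hu₀, hu₀1⟩ : ∃ u ∈ A, u ≠ 1 := by
    obtain ⟨u, hu⟩ : ((A : Set X) \ {1}).Nonempty :=
      Set.nonempty_of_ncard_ne_zero (by rw [hcard3]; norm_num)
    exact ⟨u, hu.1, hu.2⟩
  have he3 : e = 3 := by
    have h1 := Set.ncard_le_ncard (horb u₀ hu₀ hu₀1)
    rw [horbc u₀ hu₀ hu₀1, hcard3] at h1
    have := h.three_le
    omega
  have htrans : ∀ u ∈ A, u ≠ 1 → ∀ v ∈ A, v ≠ 1 →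
      ∃ n ∈ Subgroup.normalizer ((S : Subgroup X) : Set X), n * u * n⁻¹ = v := by
    intro u hu hu1 v hv hv1
    have heq := Set.eq_of_subset_of_ncard_le (horb u hu hu1) (by
      rw [horbc u hu hu1, hcard3, he3])
    exact (heq.symm ▸ ⟨hv, hv1⟩ : v ∈ {v : X | ∃ n ∈ Subgroup.normalizer
      ((S : Subgroup X) : Set X), n * u * n⁻¹ = v})
  letI : CommGroup (S : Subgroup X) :=
    { (inferInstance : Group (S : Subgroup X)) with
      mul_comm := fun a b => Subtype.ext (h.comm a a.2 b b.2) }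
  obtain ⟨m, r, ⟨φ⟩⟩ := FpfHeight.Homocyclic.exists_equiv_pow (A := (S : Subgroup X)) S.2 (by
    intro x y hx hx2 hy hy2
    have hmem : ∀ z : (S : Subgroup X), z ^ 2 = 1 → (z : X) ∈ A := fun z hz =>
      mem_omega.2 ⟨z.2, by rw [← Subgroup.coe_pow, hz, Subgroup.coe_one]⟩
    obtain ⟨n, hn, he⟩ := htrans x (hmem x hx2) (fun e => hx (Subtype.ext e)) y (hmem y hy2)
      (fun e => hy (Subtype.ext e))
    exact ⟨(S : Subgroup X).normalizerMonoidHom ⟨n, hn⟩, Subtype.ext he⟩)
  -- the number of involutions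
  have hcardA : Nat.card (S : Subgroup X) = (2 ^ m) ^ r := by
    rw [Nat.card_congr φ.toEquiv, Nat.card_fun, Nat.card_fin, Nat.card_congr Multiplicative.toAdd,
      Nat.card_zmod]
  have hAle : A ≤ (S : Subgroup X) := fun x hx => (mem_omega.1 hx).1
  have hm : m ≠ 0 := by
    rintro rfl
    rw [pow_zero, one_pow] at hcardA
    have := Subgroup.card_le_of_le hAle
    omega
  have hr : r = 2 := by
    have e1 : A ≃ (Fin r → {z : Multiplicative (ZMod (2 ^ m)) // z ^ 2 = 1}) :=
      { toFun := fun a i => ⟨φ ⟨a, hAle a.2⟩ i, by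
          show ((φ ⟨a, hAle a.2⟩) ^ 2) i = 1
          rw [← map_pow, show (⟨(a : X), hAle a.2⟩ : (S : Subgroup X)) ^ 2 = 1 from
              Subtype.ext (mem_omega.1 a.2).2, map_one]
          rfl⟩
        invFun := fun f => ⟨φ.symm fun i => f i, mem_omega.2 ⟨SetLike.coe_mem _, by
          rw [← Subgroup.coe_pow, ← map_pow,
            show (fun i => (f i : Multiplicative (ZMod (2 ^ m)))) ^ 2 = 1 from
              funext fun i => (f i).2, map_one, Subgroup.coe_one]⟩⟩
        left_inv := fun a => Subtype.ext (by simp)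
        right_inv := fun f => by funext i; exact Subtype.ext (by simp) }
    have e2 : Nat.card {z : Multiplicative (ZMod (2 ^ m)) // z ^ 2 = 1} = 2 := by
      have h1 := IsCyclic.card_powMonoidHom_ker (G := Multiplicative (ZMod (2 ^ m))) 2
      rw [Nat.card_congr Multiplicative.toAdd, Nat.card_zmod,
        Nat.gcd_eq_right (dvd_pow_self 2 hm)] at h1
      exact h1
    rw [Nat.card_congr e1, Nat.card_fun, Nat.card_fin, e2] at h4
    exact Nat.pow_right_injective le_rfl (show 2 ^ r = 2 ^ 2 by rw [h4])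
  subst hr
  have hm1 : m = 1 := by
    by_contra hm1
    refine hns ?_
    haveI := Homocyclic.BrauerTheorem.sylow_normal_aux (Nat.card X) X rfl S m (by omega)
      (φ.trans (piTwoEquiv _)) (fun N hN hodd => by
        haveI := hN
        exact le_bot_iff.1 (hcore ▸ Cores.le_pPrimeCore_of_not_dvd hodd.not_two_dvd_nat))
    exact isSolvable_of_normal h.comm
  subst hm1
  have hsq : ∀ x ∈ (S : Subgroup X), x ^ 2 = 1 := by
    intro x hx
    have h2 : (⟨x, hx⟩ : (S : Subgroup X)) ^ 2 = 1 :=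
      (φ.trans (piTwoEquiv _)).injective (by rw [map_pow, map_one]; exact sq_four _)
    exact congrArg Subtype.val h2
  have hS4 : Nat.card S = 4 := by
    rw [show Nat.card S = Nat.card (S : Subgroup X) from rfl, hcardA]
    norm_num
  obtain ⟨n, hn, hnC⟩ := h.exists_not_mem
  obtain ⟨x, hx, hne⟩ : ∃ x ∈ (S : Subgroup X), n * x * n⁻¹ ≠ x := by
    by_contra hc
    push Not at hc
    exact hnC (mem_centralizer_iff.2 fun x hx => (mul_inv_eq_iff_eq_mul.1 (hc x hx)).symm)
  exact ⟨(ElemNine.Local.klein_rank hM S hS4 hsq hn hx hne).trans he3.symm, by omega⟩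

theorem big_case (hns : ¬ Group.IsSolvable X) (hcore : Cfsg.pPrimeCore 2 X = ⊥)
    (hab : IsMulCommutative (S : Subgroup X))
    (h8 : 8 ≤ Nat.card (omega (S : Subgroup X) hab)) {M : Ideal Cfsg.AlgInt}
    (hM : Cfsg.IsPModular 2 M) :
    Cfsg.blockRank 2 (Cfsg.principalBlock M X) = e ∧ Nat.card S = e + 1 := by
  classical
  haveI : Fact (Nat.Prime 2) := ⟨Nat.prime_two⟩
  haveI := hM.2.1
  obtain ⟨H, hH⟩ := exists_stronglyEmbedded hns hcore hab h hfix h8
  have h2 : BenderSuzuki.TwoRank X := by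
    set A := omega (S : Subgroup X) hab
    have hA : 2 < (A : Set X).ncard := by
      rw [← Nat.card_coe_set_eq]
      exact lt_of_lt_of_le (by norm_num) h8
    obtain ⟨a, ha, b, hb, c, hc, hab', hac, hbc⟩ := (Set.two_lt_ncard (Set.toFinite _)).1 hA
    obtain ⟨x, hx, y, hy, hx1, hy1, hxy⟩ :
        ∃ x ∈ A, ∃ y ∈ A, x ≠ 1 ∧ y ≠ 1 ∧ x ≠ y := by
      rcases eq_or_ne a 1 with rfl | ha1
      · exact ⟨b, hb, c, hc, hab'.symm, hac.symm, hbc⟩
      · rcases eq_or_ne b 1 with rfl | hb1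
        · exact ⟨a, ha, c, hc, ha1, hbc.symm, hac⟩
        · exact ⟨a, ha, b, hb, ha1, hb1, hab'⟩
    exact ⟨x, y, hx1, hy1, hxy, by rw [← pow_two]; exact (mem_omega.1 hx).2,
      by rw [← pow_two]; exact (mem_omega.1 hy).2, h.comm x (mem_omega.1 hx).1 y (mem_omega.1 hy).1⟩
  have hc : H.normalCore = ⊥ :=
    le_bot_iff.1 ((BenderConsumers23.normalCore_le_oddCore hH).trans hcore.le)
  obtain ⟨t, Q, hh, hg⟩ := BenderConsumers23.good BenderOne.propPartOneFinal
    BenderSuzuki.propMain hH h2 hc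
  obtain ⟨L, -, hLn, hLodd, hT⟩ := BenderConsumers23.pElementClosure_eq hh.setup hg
  haveI := hLn
  have hSL : (S : Subgroup X) ≤ L := fun x hx => by
    obtain ⟨k, hk⟩ := IsPGroup.iff_orderOf.1 S.2 ⟨x, hx⟩
    rw [Subgroup.orderOf_mk] at hk
    have h3 := Nat.eq_one_of_dvd_coprimes ((Nat.coprime_two_left.2 hLodd).pow_left k)
      (hk ▸ orderOf_map_dvd (QuotientGroup.mk' L) x) (orderOf_dvd_natCard _)
    exact (QuotientGroup.eq_one_iff _).1 (orderOf_eq_one_iff.1 h3)
  have hSab' : IsMulCommutative ((S.subtype hSL : Sylow 2 L) : Subgroup L) :=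
    ⟨⟨fun a b => Subtype.ext (Subtype.ext (h.comm _ a.2 _ b.2))⟩⟩
  rcases hT with ⟨F, i, j, n, hn, hF, ⟨θ⟩⟩ | hsz | ⟨F, i, j, n, hn, hF, ⟨θ⟩⟩
  rotate_left
  · exact absurd hsz (not_isoSuzuki _ hSab')
  · exact ((not_iso_PSU hF _ hSab').false θ).elim
  haveI : CharP F 2 := charP_of_card_eq_prime_pow (f := n) (by rw [hF])
  have hq4 : 4 ≤ Fintype.card F := hF ▸ Nat.pow_le_pow_right (show 0 < 2 by norm_num) hn
  have hfacts := Walter.Known.even_facts hn hF θ
  haveI := hfacts.simple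
  set S' : Sylow 2 L := S.subtype hSL with hS'
  have hsq : ∀ x ∈ (S : Subgroup X), x ^ 2 = 1 := fun x hx =>
    congrArg Subtype.val ((hfacts.elementary S').2 ⟨x, hSL hx⟩ hx)
  have hcard : Nat.card S = Fintype.card F := by
    obtain ⟨U, _, _, _, hUc, _⟩ := Walter.Known.psl2_torus (F := F)
    let T : Sylow 2 (Matrix.ProjectiveSpecialLinearGroup (Fin 2) F) :=
      S'.mapSurjective (f := θ.toMonoidHom) θ.surjective
    have h1 : Nat.card ↥(T : Subgroup (Matrix.ProjectiveSpecialLinearGroup (Fin 2) F)) =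
        Nat.card ↥(S' : Subgroup L) :=
      Nat.card_congr ((S' : Subgroup L).equivMapOfInjective θ.toMonoidHom θ.injective).toEquiv.symm
    have hUT : Nat.card ↥(U : Subgroup (Matrix.ProjectiveSpecialLinearGroup (Fin 2) F)) =
        Nat.card ↥(T : Subgroup (Matrix.ProjectiveSpecialLinearGroup (Fin 2) F)) :=
      U.card_eq_multiplicity.trans T.card_eq_multiplicity.symm
    rw [← hUc, hUT, h1]
    exact (Nat.card_congr (Subgroup.subgroupOfEquivOfLe hSL).toEquiv).symm
  have hexp : ∀ {u x : L}, orderOf u = 2 → x * u = u * x → x * x = 1 := by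
    intro u x hu hx
    apply θ.injective
    rw [map_mul, map_one]
    exact Walter.Known.psl_exponent_two (u := θ u) (by rw [MulEquiv.orderOf_eq, hu])
      (by rw [← map_mul, ← map_mul, hx])
  have hord : ∀ v ∈ (S : Subgroup X), v ≠ 1 → orderOf v = 2 := fun v hv hv1 =>
    orderOf_eq_prime (hsq v hv) hv1
  have hCL : ∀ v ∈ (S : Subgroup X), v ≠ 1 → ∀ x ∈ L, x * v = v * x →
      x ∈ (S : Subgroup X) := by
    intro v hv hv1 x hx hxv
    set v' : L := ⟨v, hSL hv⟩
    have hv2 : orderOf v' = 2 := by rw [Subgroup.orderOf_mk]; exact hord v hv hv1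
    have hCp : IsPGroup 2 (Subgroup.centralizer ({v'} : Set L)) := fun y => ⟨1, Subtype.ext (by
      rw [Subgroup.coe_pow, pow_one, pow_two]
      exact hexp hv2 (mem_centralizer_singleton_iff.1 y.2))⟩
    have hle : (S' : Subgroup L) ≤ Subgroup.centralizer ({v'} : Set L) := fun y hy =>
      mem_centralizer_singleton_iff.2 (Subtype.ext (h.comm _ hy v hv))
    have := S'.3 hCp hle
    have hxC : (⟨x, hx⟩ : L) ∈ Subgroup.centralizer ({v'} : Set L) :=
      mem_centralizer_singleton_iff.2 (Subtype.ext hxv)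
    rw [this] at hxC
    exact hxC
  obtain ⟨u₀, hu₀, hu₀1⟩ : ∃ u ∈ (S : Subgroup X), u ≠ 1 := by
    by_contra hb
    push Not at hb
    have : (S : Subgroup X) = ⊥ := (eq_bot_iff_forall _).2 hb
    have h' := hcard
    rw [show Nat.card S = Nat.card (S : Subgroup X) from rfl, this, card_bot] at h'
    omega
  -- nothing centralizes `L`
  have hCLbot : Subgroup.centralizer (L : Set X) = ⊥ := by
    refine le_bot_iff.1 (hcore ▸ Cores.le_pPrimeCore_of_not_dvd fun h2' => ?_)
    obtain ⟨d, hd⟩ := exists_prime_orderOf_dvd_card' 2 h2'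
    have hdL : (d : X) ∈ L := by
      have h3 := Nat.eq_one_of_dvd_coprimes (Nat.coprime_two_left.2 hLodd)
        ((Subgroup.orderOf_coe d).trans hd ▸ orderOf_map_dvd (QuotientGroup.mk' L) (d : X))
        (orderOf_dvd_natCard _)
      exact (QuotientGroup.eq_one_iff _).1 (orderOf_eq_one_iff.1 h3)
    have hz : (⟨d, hdL⟩ : L) ∈ Subgroup.center L := mem_center_iff.2 fun y =>
      Subtype.ext (mem_centralizer_iff.1 d.2 y y.2)
    rcases Subgroup.Normal.eq_bot_or_eq_top (inferInstance : (Subgroup.center L).Normal) with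
      hb | ht
    · rw [hb, mem_bot] at hz
      have : d = 1 := Subtype.ext (congrArg (fun z : L => (z : X)) hz)
      rw [this, orderOf_one] at hd
      omega
    · exact hfacts.nonabelian ⟨⟨fun a b => (mem_center_iff.1 (ht ▸ mem_top a) b).symm⟩⟩
  -- `S` is self-centralizing
  have hCS : Subgroup.centralizer ((S : Subgroup X) : Set X) ≤ (S : Subgroup X) := by
    rw [← Subgroup.relIndex_eq_one]
    by_contra hne1
    set C := Subgroup.centralizer ((S : Subgroup X) : Set X) with hC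
    obtain ⟨p, hp, hpd⟩ := Nat.exists_prime_and_dvd hne1
    haveI := Fact.mk hp
    have hpidx : p ∣ (S : Subgroup X).index :=
      hpd.trans (Dvd.intro _ (relIndex_mul_index h.le_centralizer))
    have hp2 : p ≠ 2 := by
      intro e2
      rw [e2] at hpidx
      exact S.not_dvd_index hpidx
    obtain ⟨d, hd⟩ := exists_prime_orderOf_dvd_card' p
      (hpd.trans ((S : Subgroup X).subgroupOf C).index_dvd_card)
    set α : MulAut L := MulAut.conjNormal (d : X) with hα
    have hαo : Odd (orderOf α) := Odd.of_dvd_nat (hp.odd_of_ne_two hp2) (by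
      rw [← hd, ← Subgroup.orderOf_coe d]
      exact orderOf_map_dvd (MulAut.conjNormal (H := L)) (d : X))
    have hα1 : α = 1 := hfacts.aut ⟨u₀, hSL hu₀⟩ (by
      rw [Subgroup.orderOf_mk]; exact hord u₀ hu₀ hu₀1) α hαo fun x hx => by
      apply Subtype.ext
      have hxS := hCL u₀ hu₀ hu₀1 x x.2 (congrArg Subtype.val hx)
      rw [hα, MulAut.conjNormal_apply, mul_inv_eq_iff_eq_mul]
      exact (mem_centralizer_iff.1 d.2 _ hxS).symm
    have hdC : (d : X) ∈ Subgroup.centralizer (L : Set X) := mem_centralizer_iff.2 fun x hx => by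
      have := congrArg (fun β : MulAut L => ((β ⟨x, hx⟩ : L) : X)) hα1
      simp only [hα, MulAut.conjNormal_apply, MulAut.one_apply] at this
      exact (mul_inv_eq_iff_eq_mul.1 this).symm
    rw [hCLbot, mem_bot, OneMemClass.coe_eq_one] at hdC
    rw [hdC, orderOf_one] at hd
    exact hp.ne_one hd.symm
  have hCeq : Subgroup.centralizer ((S : Subgroup X) : Set X) = (S : Subgroup X) :=
    le_antisymm hCS h.le_centralizer
  obtain ⟨m, hmN, hmodd, hmt⟩ := hfacts.torus S'
  have hmN' : (m : X) ∈ Subgroup.normalizer ((S : Subgroup X) : Set X) :=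
    ElemNine.Local.mem_normalizer_of_subtype hSL hmN
  -- `X = L`
  have hL : L = ⊤ := by
    set N := Subgroup.normalizer ((S : Subgroup X) : Set X) with hN
    have h1 := h.index
    rw [hCeq, ← relIndex_mul_relIndex (S : Subgroup X) (N ⊓ L) N
      (le_inf Subgroup.le_normalizer hSL) inf_le_left] at h1
    have h2 : (N ⊓ L).relIndex N = 1 := by
      rcases h.prime.eq_one_or_self_of_dvd ((N ⊓ L).relIndex N) (h1 ▸ Dvd.intro_left _ rfl) with
        h3 | h3
      · exact h3
      exfalso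
      rw [h3] at h1
      have h5 : (S : Subgroup X).relIndex (N ⊓ L) = 1 :=
        Nat.eq_of_mul_eq_mul_right h.prime.pos (h1.trans (one_mul e).symm)
      have hmS : (m : X) ∈ (S : Subgroup X) := relIndex_eq_one.1 h5 ⟨hmN', m.2⟩
      have h6 : m = 1 := Subtype.ext (by
        by_contra hm1
        have := hord _ hmS hm1
        rw [Subgroup.orderOf_coe] at this
        rw [this] at hmodd
        exact Nat.not_even_iff_odd.2 hmodd even_two)
      subst h6
      obtain ⟨v, hv, hv'⟩ : ∃ v ∈ (S : Subgroup X), v ≠ 1 ∧ v ≠ u₀ := by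
        have hlt : ({1, u₀} : Set X).ncard < ((S : Subgroup X) : Set X).ncard := by
          rw [Set.ncard_pair (Ne.symm hu₀1), ← Nat.card_coe_set_eq]
          exact lt_of_lt_of_le (by norm_num) (hq4.trans hcard.ge)
        obtain ⟨v, hv, hv'⟩ := Set.exists_mem_notMem_of_ncard_lt_ncard hlt
        simp only [Set.mem_insert_iff, Set.mem_singleton_iff, not_or] at hv'
        exact ⟨v, hv, hv'⟩
      obtain ⟨k, hk⟩ := hmt ⟨u₀, hSL hu₀⟩ hu₀ (fun e => hu₀1 (congrArg Subtype.val e))
        ⟨v, hSL hv⟩ hv (fun e => hv'.1 (congrArg Subtype.val e))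
      rw [one_pow, one_mul, inv_one, mul_one] at hk
      exact hv'.2 (congrArg Subtype.val hk).symm
    have h7 := Sylow.normalizer_sup_eq_top' S hSL
    rw [eq_top_iff, ← h7, sup_le_iff]
    exact ⟨(relIndex_eq_one.1 h2).trans inf_le_right, le_rfl⟩
  have hC : ∀ v ∈ (S : Subgroup X), v ≠ 1 → ∀ x : X, x * v = v * x → x ∈ (S : Subgroup X) :=
    fun v hv hv1 x => hCL v hv hv1 x (hL ▸ mem_top x)
  have hN : ∀ v ∈ (S : Subgroup X), v ≠ 1 → ∀ w ∈ (S : Subgroup X), w ≠ 1 →
      ∃ n ∈ Subgroup.normalizer ((S : Subgroup X) : Set X), n * v * n⁻¹ = w := by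
    intro v hv hv1 w hw hw1
    obtain ⟨k, hk⟩ := hmt ⟨v, hSL hv⟩ hv (fun e => hv1 (congrArg Subtype.val e))
      ⟨w, hSL hw⟩ hw (fun e => hw1 (congrArg Subtype.val e))
    exact ⟨(m : X) ^ k, pow_mem hmN' k, by simpa using congrArg Subtype.val hk⟩
  have heq : e + 1 = Fintype.card F := by
    have hset : {w : X | ∃ n ∈ Subgroup.normalizer ((S : Subgroup X) : Set X), n * u₀ * n⁻¹ = w} =
        ((S : Subgroup X) : Set X) \ {1} := by
      refine Set.Subset.antisymm ?_ fun w hw => hN u₀ hu₀ hu₀1 w hw.1 hw.2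
      rintro w ⟨n, hn, rfl⟩
      exact ⟨(mem_normalizer_iff.1 hn u₀).1 hu₀, by
        simp only [Set.mem_singleton_iff, conj_eq_one_iff]; exact hu₀1⟩
    have h1 := h.card_orbit hu₀ (fun hf => hu₀1 (by rwa [hfix, mem_bot] at hf))
    have h4 : ({w : X | ∃ n ∈ Subgroup.normalizer ((S : Subgroup X) : Set X),
        n * u₀ * n⁻¹ = w}).ncard = e := (Nat.card_coe_set_eq _).symm.trans h1
    rw [hset, Set.ncard_sdiff_singleton_of_mem (one_mem _), ← Nat.card_coe_set_eq] at h4
    rw [show Nat.card S = Nat.card ((S : Subgroup X) : Set X) from rfl] at hcard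
    omega
  let θ' : X ≃* Matrix.SpecialLinearGroup (Fin 2) F :=
    ((Subgroup.topEquiv.symm.trans (MulEquiv.subgroupCongr hL.symm)).trans θ).trans
      PrimeGraph.SL2.slEquivPSL.symm
  obtain ⟨hr, -⟩ := principal_SL2 S hsq hC hM hq4 θ' hcard hN
  omega

/-- **The reduced case.** -/
theorem core_case (hcore : Cfsg.pPrimeCore 2 X = ⊥) {M : Ideal Cfsg.AlgInt}
    (hM : Cfsg.IsPModular 2 M) :
    Cfsg.blockRank 2 (Cfsg.principalBlock M X) = e ∧
      (¬ Group.IsSolvable X → Nat.card S = e + 1) := by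
  classical
  by_cases hs : Group.IsSolvable X
  · haveI := hs
    exact ⟨h.blockRank_of_solvable hcore hM, fun hh => absurd hs hh⟩
  haveI : Fact (Nat.Prime 2) := ⟨Nat.prime_two⟩
  have hab : IsMulCommutative (S : Subgroup X) :=
    ⟨⟨fun a b => Subtype.ext (h.comm a a.2 b b.2)⟩⟩
  set A := omega (S : Subgroup X) hab with hA
  have hAp : IsPGroup 2 A := S.2.to_le fun x hx => (mem_omega.1 hx).1
  obtain ⟨k, hk⟩ := IsPGroup.iff_card.1 hAp
  have key : Cfsg.blockRank 2 (Cfsg.principalBlock M X) = e ∧ Nat.card S = e + 1 := by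
    rcases k with _ | _ | _ | k
    · refine absurd (Cfsg.Agent.S0205.result (Nat.not_even_iff_odd.1 fun hev => ?_)) hs
      obtain ⟨t, ht⟩ := exists_prime_orderOf_dvd_card' 2 (S.dvd_card_of_dvd_card hev.two_dvd)
      have htA : (t : X) ∈ A := mem_omega.2 ⟨t.2, SolvCentAb12.coe_sq_one ht⟩
      haveI : Subsingleton A := (Nat.card_eq_one_iff_unique.1 (hk.trans (pow_zero 2))).1
      have : (⟨_, htA⟩ : A) = 1 := Subsingleton.elim _ _
      rw [show t = 1 from Subtype.ext (congrArg (fun a : A => (a : X)) this), orderOf_one] at ht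
      omega
    · exfalso
      obtain ⟨z, hz, huniq⟩ := (Nat.card_eq_two_iff' (1 : A)).1 (by rw [hk, pow_one])
      have hzf : (z : X) ∈ fixed S := by
        refine mem_fixed.2 ⟨(mem_omega.1 z.2).1, fun n hn => mul_inv_eq_iff_eq_mul.1 ?_⟩
        have hmem : n * (z : X) * n⁻¹ ∈ A := mem_omega.2
          ⟨(mem_normalizer_iff.1 hn _).1 (mem_omega.1 z.2).1, by
            rw [conj_pow, (mem_omega.1 z.2).2, mul_one, mul_inv_cancel]⟩
        exact congrArg Subtype.val (huniq ⟨_, hmem⟩ fun e1 => hz (Subtype.ext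
          (conj_eq_one_iff.1 (congrArg Subtype.val e1))))
      rw [hfix, mem_bot] at hzf
      exact hz (Subtype.ext hzf)
    · exact h.four_case hfix hs hcore hab (hk.trans rfl) hM
    · refine h.big_case hfix hs hcore hab ?_ hM
      rw [hk, pow_succ, pow_succ, pow_succ]
      have := Nat.one_le_pow k 2 two_pos
      omega
  exact ⟨key.1, fun _ => key.2⟩

end Setup

end Cfsg.Agent.Lib.AbelianPrime79
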