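import Cfsg.Agent.Lib.AbelianPrime79.Basic
import Cfsg.Agent.Lib.SolvCentAb12.Simple

/-!
# A strongly embedded subgroup from an abelian Sylow 2-subgroup with automizer of prime order

The argument of `SolvCentAb12.exists_stronglyEmbedded`, with simplicity replaced by a trivial odd
core and non-solvability (helper79).
-/

set_option autoImplicit false
set_option linter.style.haveILetI false

namespace Cfsg.Agent.Lib.AbelianPrime79

open Subgroup
open Cfsg.Agent.Lib.SolvCentAb12 (omega coe_sq_one mem_omega sup_normalizer_eq_top)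
open Cfsg.Agent.Lib.Involutions.Basic (orderOf_conj_eq)

universe u

variable {G : Type u} [Group G] [Finite G]

/-- The odd cores of the centralizers generate a subgroup whose normalizer, or else the Sylow
normalizer, is strongly embedded. -/
theorem exists_stronglyEmbedded (hns : ¬ Group.IsSolvable G)
    (hcore : Cfsg.pPrimeCore 2 G = ⊥) {S : Sylow 2 G}
    (hab : IsMulCommutative (S : Subgroup G)) {e : ℕ} (h : Setup S e) (hfix : fixed S = ⊥)
    (h8 : 8 ≤ Nat.card (omega (S : Subgroup G) hab)) :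
    ∃ H : Subgroup G, Cfsg.IsStronglyEmbedded H := by
  haveI : Fact (Nat.Prime 2) := ⟨Nat.prime_two⟩
  have heG : Even (Nat.card G) := Nat.not_odd_iff_even.1 fun ho => hns
    (Cfsg.Agent.S0205.result ho)
  set A := omega (S : Subgroup G) hab with hAdef
  have hC : ∀ a ∈ A, a ≠ 1 → Group.IsSolvable ↥(Subgroup.centralizer ({a} : Set G)) :=
    fun a ha ha1 => h.solvable_centralizer (mem_omega.1 ha).1 fun hf => ha1 (by
      rwa [hfix, Subgroup.mem_bot] at hf)
  have hord : ∀ a ∈ A, a ≠ 1 → orderOf a = 2 := fun a ha ha1 =>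
    orderOf_eq_prime (mem_omega.1 ha).2 ha1
  have hAcomm : ∀ a ∈ A, ∀ b ∈ A, a * b = b * a := fun a ha b hb =>
    congrArg Subtype.val (hab.is_comm.comm ⟨a, (mem_omega.1 ha).1⟩ ⟨b, (mem_omega.1 hb).1⟩)
  set θ : G → Subgroup G := fun a => Cfsg.centralizerPPrimeCore 2 a with hθ
  have hSC : ∀ a ∈ A, (S : Subgroup G) ≤ Subgroup.centralizer ({a} : Set G) := fun a ha s hs =>
    Subgroup.mem_centralizer_singleton_iff.2
      (congrArg Subtype.val (hab.is_comm.comm ⟨s, hs⟩ ⟨a, (mem_omega.1 ha).1⟩))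
  have hθC : ∀ a ∈ A, a ≠ 1 → θ a ≤ Subgroup.centralizer {a} := fun a _ _ =>
    Cfsg.Agent.Lib.Balance.centralizerPPrimeCore_le a
  have hθp : ∀ a ∈ A, a ≠ 1 → ¬ 2 ∣ Nat.card (θ a) := fun a _ _ =>
    Cfsg.Agent.Lib.Balance.not_dvd_card_centralizerPPrimeCore a
  have hnorm : ∀ a g : G, g ∈ Subgroup.centralizer ({a} : Set G) → ∀ x ∈ θ a, g * x * g⁻¹ ∈ θ a :=
    fun a g hg x hx => (Subgroup.mem_normalizer_iff.1
      (Cfsg.Agent.Lib.Balance.centralizer_le_normalizer_centralizerPPrimeCore a hg) x).1 hx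
  have hθinv : ∀ a ∈ A, a ≠ 1 → ∀ b ∈ A, ∀ x ∈ θ a, b * x * b⁻¹ ∈ θ a := fun a ha _ b hb =>
    hnorm a b (Subgroup.mem_centralizer_singleton_iff.2 (hAcomm b hb a ha))
  have hθs : ∀ a ∈ A, a ≠ 1 → Group.IsSolvable (θ a) := fun a ha ha1 => by
    haveI := hC a ha ha1
    exact Group.isSolvable_of_isSolvable_injective (f := Subgroup.inclusion (hθC a ha ha1))
      (Subgroup.inclusion_injective _)
  have hbal : ∀ a ∈ A, a ≠ 1 → ∀ b ∈ A, b ≠ 1 → θ a ⊓ Subgroup.centralizer {b} ≤ θ b :=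
    fun a ha ha1 b hb hb1 => by
      haveI := hC b hb hb1
      exact Cfsg.Agent.Lib.Balance.balance_of_pLayer_eq_bot (hord a ha ha1) (hAcomm a ha b hb)
        Cfsg.Agent.Lib.Balance.pLayer_eq_bot_of_isSolvable
  obtain ⟨hWodd, hWcut⟩ := Cfsg.Agent.S0217.result A hAcomm (fun a ha => (mem_omega.1 ha).2)
    (by norm_num; omega) θ hθC hθp hθinv hθs hbal
  set W := ⨆ a : {a : G // a ∈ A ∧ a ≠ 1}, θ a with hW
  have hθW : ∀ a ∈ A, a ≠ 1 → θ a ≤ W := fun a ha ha1 =>
    le_iSup (fun a : {a : G // a ∈ A ∧ a ≠ 1} => θ a) ⟨a, ha, ha1⟩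
  have hNAW : ∀ g : G, (∀ a ∈ A, g * a * g⁻¹ ∈ A) → W.map (MulAut.conj g).toMonoidHom ≤ W := by
    intro g hg
    rw [hW, Subgroup.map_iSup]
    refine iSup_le fun a => ?_
    rw [hθ]
    simp only
    rw [← Cfsg.Agent.Lib.Balance.centralizerPPrimeCore_conj]
    exact le_iSup (fun b : {b : G // b ∈ A ∧ b ≠ 1} => θ b)
      ⟨g * a.1 * g⁻¹, hg _ a.2.1, fun h => a.2.2 (by
        have := congrArg (fun z => g⁻¹ * z * g) h
        simpa [mul_assoc] using this)⟩
  have hNS : Subgroup.normalizer ((S : Subgroup G) : Set G) ≤ Subgroup.normalizer (W : Set G) := by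
    intro g hg
    have hmap : W.map (MulAut.conj g).toMonoidHom = W := by
      refine Subgroup.eq_of_le_of_card_ge (hNAW g fun a ha => mem_omega.2
        ⟨(Subgroup.mem_normalizer_iff.1 hg a).1 (mem_omega.1 ha).1, by
          rw [conj_pow, (mem_omega.1 ha).2, mul_one, mul_inv_cancel]⟩) ?_
      rw [Subgroup.card_map_of_injective (f := (MulAut.conj g).toMonoidHom) (MulAut.conj g).injective]
    refine Subgroup.mem_normalizer_iff.2 fun x => ⟨fun hx => ?_, fun hx => ?_⟩
    · exact hmap ▸ ⟨x, hx, rfl⟩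
    · change g * x * g⁻¹ ∈ W at hx
      rw [← hmap] at hx
      obtain ⟨y, hy, hye⟩ := hx
      have hye' : g * y * g⁻¹ = g * x * g⁻¹ := hye
      rwa [← mul_left_cancel (mul_right_cancel hye')]
  classical
  set H := if W = ⊥ then Subgroup.normalizer ((S : Subgroup G) : Set G)
    else Subgroup.normalizer (W : Set G) with hH
  have hNH : Subgroup.normalizer ((S : Subgroup G) : Set G) ≤ H := by
    rw [hH]
    split_ifs
    · exact le_rfl
    · exact hNS
  have hSH : (S : Subgroup G) ≤ H := Subgroup.le_normalizer.trans hNH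
  have hCH : ∀ a ∈ A, a ≠ 1 → Subgroup.centralizer ({a} : Set G) ≤ H := by
    intro a ha ha1
    haveI := hC a ha ha1
    set C := Subgroup.centralizer ({a} : Set G) with hCdef
    have hle := hSC a ha
    have hPab : IsMulCommutative ((S.subtype hle : Sylow 2 C) : Subgroup C) :=
      ⟨⟨fun x y => by
        have := congrArg Subtype.val (hab.is_comm.comm (⟨((x : C) : G), x.2⟩ : (S : Subgroup G))
          ⟨((y : C) : G), y.2⟩)
        exact Subtype.ext (Subtype.ext this)⟩⟩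
    have hfr := sup_normalizer_eq_top (S.subtype hle) hPab
    have hOH : θ a ≤ H := by
      rw [hH]
      split_ifs with hW1
      · exact (hθW a ha ha1).trans (hW1 ▸ bot_le)
      · exact (hθW a ha ha1).trans Subgroup.le_normalizer
    intro c hc
    have hcm : (⟨c, hc⟩ : C) ∈ H.subgroupOf C := by
      have hle' : (Subgroup.normalizer (((S.subtype hle : Sylow 2 C) : Subgroup C) : Set C) ⊔
          Cfsg.pPrimeCore 2 C) ≤ H.subgroupOf C := by
        refine sup_le (fun x hx => ?_) (fun x hx => ?_)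
        · refine Subgroup.mem_subgroupOf.2 (hNH (Subgroup.mem_normalizer_iff.2 fun s => ⟨fun hs => ?_,
            fun hs => ?_⟩))
          · exact (Subgroup.mem_normalizer_iff.1 hx ⟨s, hle hs⟩).1 hs
          · have hsC : s ∈ C := by
              have : (x : G) * s * (x : G)⁻¹ ∈ C := hle hs
              simpa [mul_assoc] using mul_mem (mul_mem (inv_mem x.2) this) x.2
            exact (Subgroup.mem_normalizer_iff.1 hx ⟨s, hsC⟩).2 hs
        · exact hOH ⟨x, hx, rfl⟩
      exact hle' (hfr ▸ mem_top _)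
    exact Subgroup.mem_subgroupOf.1 hcm
  have hne : H ≠ ⊤ := by
    rw [hH]
    split_ifs with hW1
    · intro h1
      haveI : (S : Subgroup G).Normal := Subgroup.normalizer_eq_top_iff.1 h1
      haveI : Group.IsSolvable ↥(S : Subgroup G) :=
        Group.isSolvable_of_comm fun a b => hab.is_comm.comm a b
      haveI : Group.IsSolvable (G ⧸ (S : Subgroup G)) :=
        Cfsg.Agent.S0205.result (Nat.not_even_iff_odd.1 fun hev => S.not_dvd_index hev.two_dvd)
      exact hns (Group.isSolvable_of_ker_le_range (S : Subgroup G).subtype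
        (QuotientGroup.mk' (S : Subgroup G)) (by simp))
    · intro h1
      haveI : W.Normal := Subgroup.normalizer_eq_top_iff.1 h1
      exact hW1 (le_bot_iff.1 (hcore ▸ Cores.le_pPrimeCore_of_not_dvd hWodd))
  have heven : Even (Nat.card H) := even_iff_two_dvd.2
    ((S.dvd_card_of_dvd_card heG.two_dvd).trans (Subgroup.card_dvd_of_le hSH))
  -- every involution of `H` is conjugate in `H` to one of `A`
  have hconj : ∀ t ∈ H, orderOf t = 2 → ∃ h ∈ H, h * t * h⁻¹ ∈ A := by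
    intro t htH ht
    have hp : IsPGroup 2 (Subgroup.zpowers (⟨t, htH⟩ : H)) := IsPGroup.of_card (n := 1) (by
      rw [Nat.card_zpowers, ← Subgroup.orderOf_coe]; simpa using ht)
    obtain ⟨P', hP'⟩ := hp.exists_le_sylow
    obtain ⟨h, hh⟩ := MulAction.exists_smul_eq H P' (S.subtype hSH)
    have hmem : h * (⟨t, htH⟩ : H) * h⁻¹ ∈ ((S.subtype hSH : Sylow 2 H) : Subgroup H) := by
      rw [← hh, Sylow.coe_subgroup_smul]
      simpa using Subgroup.smul_mem_pointwise_smul (a := MulAut.conj h) (⟨t, htH⟩ : H)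
        (P' : Subgroup H) (hP' (Subgroup.mem_zpowers _))
    refine ⟨h, h.2, mem_omega.2 ⟨hmem, ?_⟩⟩
    have ht2 : t ^ 2 = 1 := by rw [← ht, pow_orderOf_eq_one]
    rw [conj_pow, ht2, mul_one, mul_inv_cancel]
  have hne1 : ∀ t g : G, orderOf t = 2 → g * t * g⁻¹ ≠ 1 := fun t g ht h => by
    rw [← orderOf_conj_eq g t, h, orderOf_one] at ht
    omega
  have hcent : ∀ t ∈ H, orderOf t = 2 → Subgroup.centralizer ({t} : Set G) ≤ H := by
    intro t htH ht c hc
    obtain ⟨h, hh, hA⟩ := hconj t htH ht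
    have hm : h * c * h⁻¹ ∈ H := hCH _ hA (hne1 t h ht) (by
      rw [Subgroup.mem_centralizer_singleton_iff] at hc ⊢
      calc h * c * h⁻¹ * (h * t * h⁻¹) = h * (c * t) * h⁻¹ := by group
        _ = h * t * h⁻¹ * (h * c * h⁻¹) := by rw [hc]; group)
    simpa [mul_assoc] using mul_mem (mul_mem (inv_mem hh) hm) hh
  refine ⟨H, (Cfsg.Agent.Lib.Involutions.StronglyEmbedded.isStronglyEmbedded_iff_fusion hne heven).2
    ⟨hcent, fun t htH s hsH ht hs hts => ?_⟩⟩
  obtain ⟨h, hh, hA⟩ := hconj t htH ht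
  obtain ⟨h', hh', hA'⟩ := hconj s hsH hs
  obtain ⟨g, hg⟩ := isConj_iff.1 hts
  haveI := hab
  obtain ⟨n, hn, hne'⟩ := Sylow.conj_eq_normalizer_conj_of_mem S (h * t * h⁻¹) (h' * g * h⁻¹)⁻¹
    (mem_omega.1 hA).1 (by
      rw [inv_inv]
      have h1 := (mem_omega.1 hA').1
      rw [← hg] at h1
      have e1 : h' * g * h⁻¹ * (h * t * h⁻¹) * (h' * g * h⁻¹)⁻¹ = h' * (g * t * g⁻¹) * h'⁻¹ := by group
      exact e1 ▸ h1)
  rw [inv_inv] at hne'
  refine ⟨h'⁻¹ * n⁻¹ * h, mul_mem (mul_mem (inv_mem hh') (inv_mem (hNH hn))) hh, ?_⟩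
  calc h'⁻¹ * n⁻¹ * h * t * (h'⁻¹ * n⁻¹ * h)⁻¹ = h'⁻¹ * (n⁻¹ * (h * t * h⁻¹) * n) * h' := by group
    _ = h'⁻¹ * ((h' * g * h⁻¹) * (h * t * h⁻¹) * (h' * g * h⁻¹)⁻¹) * h' := by rw [hne']
    _ = g * t * g⁻¹ := by group
    _ = s := hg

end Cfsg.Agent.Lib.AbelianPrime79
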