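import Cfsg.Agent.Lib.AbelianPrime79.Core
import Cfsg.Agent.Lib.ZStar.Elements
import Cfsg.Agent.Lib.BrauerMap.Inflation
import Cfsg.Agent.Lib.PrincipalCore.Basic
import Cfsg.Agent.S0215
import Cfsg.Agent.S4571

/-!
# The principal 2-block for an abelian Sylow subgroup with automizer of prime order

Reduction modulo the odd core and the central fixed points, and the count `k = |P|` (helper79).
-/

set_option autoImplicit false
set_option linter.style.haveILetI false

namespace Cfsg.Agent.Lib.AbelianPrime79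

open Subgroup
open Cfsg.Agent.Lib.Characters.Basic
open Cfsg.Agent.Lib.BrauerPairs Cfsg.Agent.Lib.BrauerPairs.Center Cfsg.Agent.Lib.BrauerPairs.Bridge
open Cfsg.Agent.Lib.BrauerPairs.Pairs Cfsg.Agent.Lib.BrauerPairs.Principal
open Cfsg.Agent.Lib.BrauerPairs.SubsectionCount

universe u

attribute [local instance] Ideal.Quotient.field

variable {G : Type u} [Group G] [Finite G] {P : Sylow 2 G} {e : ℕ}

local notation "N[" P "]" => Subgroup.normalizer ((P : Subgroup G) : Set G)
local notation "C[" P "]" => Subgroup.centralizer ((P : Subgroup G) : Set G)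

namespace Setup

variable (h : Setup P e)
include h

theorem pow_mem_centralizer {n : G} (hn : n ∈ N[P]) : n ^ e ∈ C[P] := by
  haveI : (C[P].subgroupOf N[P]).Normal := by
    rw [← Subgroup.normalizerMonoidHom_ker]
    infer_instance
  have h1 := Subgroup.pow_index_mem (C[P].subgroupOf N[P]) (⟨n, hn⟩ : N[P])
  rw [show (C[P].subgroupOf N[P]).index = e from h.index] at h1
  exact mem_subgroupOf.1 h1

/-- A commutator that is a fixed point is trivial. -/
theorem comm_of_commutator_mem {n x : G} (hn : n ∈ N[P]) (hx : x ∈ (P : Subgroup G))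
    (hc : n * x * n⁻¹ * x⁻¹ ∈ fixed P) : n * x = x * n := by
  haveI : Fact (Nat.Prime 2) := ⟨Nat.prime_two⟩
  set c := n * x * n⁻¹ * x⁻¹ with hcdef
  obtain ⟨hcP, hfix⟩ := mem_fixed.1 hc
  have hk : ∀ k : ℕ, n ^ k * x * (n ^ k)⁻¹ = c ^ k * x := by
    intro k
    induction k with
    | zero => simp
    | succ k ih =>
      have h1 : n * c ^ k * n⁻¹ = c ^ k :=
        mul_inv_eq_iff_eq_mul.2 (Commute.pow_right (hfix n hn : Commute n c) k).eq
      calc n ^ (k + 1) * x * (n ^ (k + 1))⁻¹ = n * (n ^ k * x * (n ^ k)⁻¹) * n⁻¹ := by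
            rw [pow_succ']; group
        _ = n * c ^ k * n⁻¹ * (n * x * n⁻¹) := by rw [ih]; group
        _ = c ^ k * (n * x * n⁻¹) := by rw [h1]
        _ = c ^ k * c * x := by
            rw [mul_assoc (c ^ k) c x]
            congr 1
            rw [hcdef]
            group
        _ = c ^ (k + 1) * x := by rw [← pow_succ]
  have he : n ^ e * x * (n ^ e)⁻¹ = x :=
    mul_inv_eq_iff_eq_mul.2 (mem_centralizer_iff.1 (h.pow_mem_centralizer hn) x hx).symm
  rw [hk, mul_eq_right] at he
  obtain ⟨a, ha⟩ := IsPGroup.iff_orderOf.1 P.2 ⟨c, hcP⟩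
  rw [Subgroup.orderOf_mk] at ha
  have h1 := Nat.eq_one_of_dvd_coprimes ((Nat.coprime_two_left.2 h.odd).pow_left a) ha.dvd
    (orderOf_dvd_of_pow_eq_one he)
  rw [orderOf_eq_one_iff, hcdef] at h1
  exact mul_inv_eq_iff_eq_mul.1 (mul_inv_eq_one.1 h1)

/-- With trivial odd core the fixed points are central. -/
theorem fixed_le_center (hcore : Cfsg.pPrimeCore 2 G = ⊥) : fixed P ≤ Subgroup.center G := by
  intro x hx
  refine mem_center_iff.2 fun g => ?_
  have h1 := ZStar.Elements.commutator_mem_oddCore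
    (fun K _ _ Q t ht htQ hiso => Cfsg.Agent.S0215.result Q t ht htQ hiso) _ G P x rfl
    ⟨fixed_le hx, fun g hg => h.eq_of_conj_mem hx hg⟩ g
  change x * g * x⁻¹ * g⁻¹ ∈ Cfsg.pPrimeCore 2 G at h1
  rw [hcore, mem_bot, mul_inv_eq_one, mul_inv_eq_iff_eq_mul] at h1
  exact h1.symm

section Quotient

variable [(fixed P).Normal]

/-- The group modulo the fixed points. -/
theorem quotient_fixed [Fact (Nat.Prime 2)] :
    Setup (P.mapSurjective (QuotientGroup.mk'_surjective (fixed P))) e ∧
      fixed (P.mapSurjective (QuotientGroup.mk'_surjective (fixed P))) = ⊥ := by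
  set f := QuotientGroup.mk' (fixed P) with hf
  have hmem : ∀ y : G, f y ∈ (P : Subgroup G).map f ↔ y ∈ (P : Subgroup G) := by
    refine fun y => ⟨?_, fun hy => ⟨y, hy, rfl⟩⟩
    rintro ⟨z, hz, he⟩
    have h1 : z⁻¹ * y ∈ fixed P := QuotientGroup.eq.1 he
    simpa using mul_mem hz (fixed_le h1)
  have hN : N[P].map f = Subgroup.normalizer
      ((P.mapSurjective (QuotientGroup.mk'_surjective (fixed P)) : Subgroup (G ⧸ fixed P)) :
        Set (G ⧸ fixed P)) := by
    refine le_antisymm (Subgroup.le_normalizer_map f) fun y hy => ?_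
    obtain ⟨g, rfl⟩ := QuotientGroup.mk'_surjective (fixed P) y
    refine ⟨g, mem_normalizer_iff.2 fun x => ?_, rfl⟩
    rw [← hmem, ← hmem, map_mul, map_mul, map_inv]
    exact mem_normalizer_iff.1 hy (f x)
  have hcomm : ∀ n ∈ N[P], ∀ x ∈ (P : Subgroup G), f n * f x = f x * f n → n * x = x * n := by
    intro n hn x hx he
    refine h.comm_of_commutator_mem hn hx ((QuotientGroup.eq_one_iff _).1 ?_)
    show f (n * x * n⁻¹ * x⁻¹) = 1
    rw [map_mul, map_mul, map_mul, map_inv, map_inv, he]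
    group
  refine ⟨h.quotient f (QuotientGroup.mk'_surjective _) hN fun n hn hc =>
    mem_centralizer_iff.2 fun x hx => (hcomm n hn x hx (hc x hx)).symm, ?_⟩
  refine (eq_bot_iff_forall _).2 fun y hy => ?_
  obtain ⟨hyP, hyN⟩ := mem_fixed.1 hy
  obtain ⟨x, hx, rfl⟩ := hyP
  refine (QuotientGroup.eq_one_iff x).2 (mem_fixed.2 ⟨hx, fun n hn => hcomm n hn x hx ?_⟩)
  exact hyN (f n) (hN ▸ mem_map_of_mem f hn)

end Quotient

end Setup

/-- A central 2-subgroup leaves the odd core trivial. -/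
theorem pPrimeCore_quotient_central (hcore : Cfsg.pPrimeCore 2 G = ⊥) (Z : Subgroup G) [Z.Normal]
    (hZ : IsPGroup 2 Z) (hcen : Z ≤ Subgroup.center G) : Cfsg.pPrimeCore 2 (G ⧸ Z) = ⊥ := by
  haveI : Fact (Nat.Prime 2) := ⟨Nat.prime_two⟩
  set O := Cfsg.pPrimeCore 2 (G ⧸ Z) with hO
  set K := O.comap (QuotientGroup.mk' Z) with hK
  haveI : K.Normal := inferInstanceAs (O.comap (QuotientGroup.mk' Z)).Normal
  have hOodd : ¬ 2 ∣ Nat.card O := Cores.not_dvd_card_pPrimeCore 2
  have hidx : (Z.subgroupOf K).index = Nat.card O := by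
    have h1 := relIndex_comap (⊥ : Subgroup (G ⧸ Z)) (QuotientGroup.mk' Z) K
    rw [MonoidHom.comap_bot, QuotientGroup.ker_mk', hK,
      map_comap_eq_self_of_surjective (QuotientGroup.mk'_surjective Z), relIndex_bot_left] at h1
    exact h1
  have hcop : Nat.Coprime (Nat.card (Z.subgroupOf K)) (Z.subgroupOf K).index := by
    obtain ⟨a, ha⟩ := IsPGroup.iff_card.1 (hZ.comap_subtype (K := K))
    rw [show Nat.card (Z.subgroupOf K) = 2 ^ a from ha, hidx]
    exact (Nat.prime_two.coprime_iff_not_dvd.2 hOodd).pow_left a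
  obtain ⟨D, hD⟩ := Subgroup.exists_right_complement'_of_coprime hcop
  have hDcard : Nat.card D = Nat.card O := by rw [← hD.symm.index_eq_card, hidx]
  have hodd : ∀ x : K, (orderOf x).Coprime 2 → x ∈ D := by
    intro x hx
    obtain ⟨⟨z, d⟩, hzd⟩ := hD.2 x
    change (z : K) * (d : K) = x at hzd
    have hzc : Commute (z : K) (d : K) :=
      Subtype.ext ((mem_center_iff.1 (hcen z.2) (d : K)).symm)
    suffices hz1 : (z : K) = 1 by
      rw [← hzd, hz1, one_mul]
      exact d.2
    have h1 : ((z : K) * (d : K)) ^ (orderOf x * Nat.card D) = 1 := by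
      rw [hzd, pow_mul, pow_orderOf_eq_one, one_pow]
    have h2 : (d : K) ^ (orderOf x * Nat.card D) = 1 := by
      rw [mul_comm, pow_mul, ← Subgroup.coe_pow, pow_card_eq_one', Subgroup.coe_one, one_pow]
    rw [hzc.mul_pow, h2, mul_one] at h1
    obtain ⟨a, ha⟩ := IsPGroup.iff_orderOf.1 (hZ.comap_subtype (K := K)) z
    have ha' : orderOf (z : K) = 2 ^ a := (Subgroup.orderOf_coe z).trans ha
    have hc : Nat.Coprime 2 (orderOf x * Nat.card D) :=
      hx.symm.mul_right (hDcard ▸ Nat.prime_two.coprime_iff_not_dvd.2 hOodd)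
    exact orderOf_eq_one_iff.1 (Nat.eq_one_of_dvd_coprimes (hc.pow_left a) ha'.dvd
      (orderOf_dvd_of_pow_eq_one h1))
  haveI : (D.map K.subtype).Normal := by
    refine ⟨fun y hy g => ?_⟩
    obtain ⟨d, hd, rfl⟩ := hy
    have hgK : g * (d : G) * g⁻¹ ∈ K := Subgroup.Normal.conj_mem inferInstance _ d.2 g
    refine ⟨⟨_, hgK⟩, hodd _ ?_, rfl⟩
    rw [Subgroup.orderOf_mk, show orderOf (g * (d : G) * g⁻¹) = orderOf (d : G) from
      (MulAut.conj g).orderOf_eq _, Subgroup.orderOf_coe]
    refine Nat.Coprime.of_dvd_left ?_ (Nat.prime_two.coprime_iff_not_dvd.2 hOodd).symm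
    rw [← hDcard, show orderOf d = orderOf (⟨d, hd⟩ : D) from (Subgroup.orderOf_coe ⟨d, hd⟩)]
    exact orderOf_dvd_natCard _
  have hD1 : D.map K.subtype = ⊥ := le_bot_iff.1 (hcore ▸ Cores.le_pPrimeCore_of_not_dvd (by
    rwa [Subgroup.card_map_of_injective K.subtype_injective, hDcard]))
  rw [(Subgroup.map_eq_bot_iff_of_injective _ K.subtype_injective).1 hD1, Subgroup.card_bot]
    at hDcard
  exact Subgroup.card_eq_one.1 hDcard.symm

/-- A group with trivial odd core. -/
theorem Setup.reduced (h : Setup P e) (hcore : Cfsg.pPrimeCore 2 G = ⊥) {M : Ideal Cfsg.AlgInt}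
    (hM : Cfsg.IsPModular 2 M) :
    Cfsg.blockRank 2 (Cfsg.principalBlock M G) = e ∧
      (¬ Group.IsSolvable G → Nat.card (Cfsg.principalBlock M G) = Nat.card P) := by
  classical
  haveI : Fact (Nat.Prime 2) := ⟨Nat.prime_two⟩
  haveI := hM.2.1
  haveI : CharP (Res M) 2 := charP_res hM
  haveI := Fintype.ofFinite G
  have hcen := h.fixed_le_center hcore
  haveI hZn : (fixed P).Normal := ⟨fun x hx g => by
    rw [mem_center_iff.1 (hcen hx) g, mul_inv_cancel_right]; exact hx⟩
  have hZp : IsPGroup 2 (fixed P) := P.2.to_le fixed_le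
  have hsup : fixed P ⊔ Subgroup.centralizer (fixed P : Set G) = ⊤ :=
    top_le_iff.1 (le_trans (fun g _ => mem_centralizer_iff.2 fun x hx =>
      (mem_center_iff.1 (hcen hx) g).symm) le_sup_right)
  obtain ⟨hX, hXfix⟩ := h.quotient_fixed
  obtain ⟨hrank, hcard⟩ := hX.core_case hXfix (pPrimeCore_quotient_central hcore _ hZp hcen) hM
  rw [← Cfsg.Agent.S4571.result 2 M hM (fixed P) hZp hsup] at hrank
  refine ⟨hrank, fun hns => ?_⟩
  have hqcard := hcard fun hs => hns (by
    haveI := hs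
    haveI : Group.IsSolvable ↥(fixed P) :=
      Group.isSolvable_of_comm fun a b => Subtype.ext (h.comm a (fixed_le a.2) b (fixed_le b.2))
    exact Group.isSolvable_of_ker_le_range (fixed P).subtype (QuotientGroup.mk' (fixed P))
      (by simp))
  set z := Nat.card (fixed P) with hz
  have hPcard : Nat.card P = (e + 1) * z := by
    rw [show Nat.card P = Nat.card (P : Subgroup G) from rfl,
      ← Subgroup.card_mul_index ((fixed P).subgroupOf (P : Subgroup G)),
      Nat.card_congr (Subgroup.subgroupOfEquivOfLe fixed_le).toEquiv, ← hz, mul_comm, ← hqcard]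
    congr 1
    show (fixed P).relIndex (P : Subgroup G) = Nat.card ↥((P : Subgroup G).map
      (QuotientGroup.mk' (fixed P)))
    rw [← relIndex_bot_left, ← relIndex_comap, MonoidHom.comap_bot, QuotientGroup.ker_mk']
  -- the count
  have hab := h.comm
  obtain ⟨R, hR⟩ := exists_orbitReps (M := M) (p := 2)
    (⟨(P : Subgroup G), princ (Res M) C[P]⟩ : Idx (Res M) G)
  have hk := SubsectionCount.card_eq hM (top_princ P) (pairOf_princ P.2) hab hR
  rw [ElemNine.Local.toSet_princ, hrank] at hk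
  have hloc : ∀ r : {r // r ∈ R},
      Cfsg.blockRank 2 (toSet (localBlk (princ (Res M) C[P]) (top_princ (k := Res M) (p := 2) P).1 hab
        (hR.mem r.1 r.2))) = if r.1 ∈ fixed P then e else 1 := by
    intro r
    split_ifs with hr
    · rw [ElemNine.Local.localBlk_princ P hab, ElemNine.Local.toSet_princ,
        ElemNine.Local.step hM P hab (hR.mem r.1 r.2) fun t ht =>
          mul_inv_eq_iff_eq_mul.2 ((mem_fixed.1 hr).2 t ht), hrank]
    · exact (blockRank_localBlk hM (top_princ P) hab (hR.mem r.1 r.2) fun x hx hxu =>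
        h.mem_centralizer_of_comm (Local.stab_le_normalizer _ hx) (hR.mem r.1 r.2) hr hxu).1
  rw [Finset.sum_congr rfl fun r _ => hloc r,
    Finset.sum_attach R (fun r : G => if r ∈ fixed P then e else 1), Finset.sum_ite,
    Finset.sum_const, Finset.sum_const, smul_eq_mul, smul_eq_mul, mul_one] at hk
  set F := Finset.univ.filter fun x : G => x ∈ fixed P with hF
  set T := Finset.univ.filter fun x : G => x ∈ (P : Subgroup G) with hT
  have hFcard : F.card = z := by
    rw [hz, Nat.card_eq_fintype_card]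
    exact (Fintype.card_subtype fun x : G => x ∈ fixed P).symm
  have hTcard : T.card = Nat.card P := by
    rw [show Nat.card P = Nat.card (P : Subgroup G) from rfl, Nat.card_eq_fintype_card]
    exact (Fintype.card_subtype fun x : G => x ∈ (P : Subgroup G)).symm
  have h1 : (R.filter fun r => r ∈ fixed P) = F.erase 1 := by
    ext x
    simp only [Finset.mem_filter, Finset.mem_erase, hF, Finset.mem_univ, true_and]
    refine ⟨fun ⟨hx, hxf⟩ => ⟨hR.ne_one x hx, hxf⟩, fun ⟨hx1, hxf⟩ => ?_⟩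
    obtain ⟨r, hr, t, ht, he⟩ := hR.exists_conj x (fixed_le hxf) hx1
    rw [mul_inv_eq_iff_eq_mul.2 ((mem_fixed.1 hxf).2 t (Local.stab_le_normalizer _ ht))] at he
    exact ⟨he ▸ hr, hxf⟩
  set R' := R.filter fun r => r ∉ fixed P with hR'
  let O : G → Finset G := fun r => Finset.univ.filter fun v => ∃ n ∈ N[P], n * r * n⁻¹ = v
  have hO : ∀ r ∈ R', (O r).card = e := by
    intro r hr
    obtain ⟨hr, hrf⟩ := Finset.mem_filter.1 hr
    rw [← h.card_orbit (hR.mem r hr) hrf, Nat.card_eq_fintype_card]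
    exact (Fintype.card_subtype _).symm
  have h2 : R'.biUnion O = T \ F := by
    ext x
    simp only [Finset.mem_biUnion, Finset.mem_sdiff, hT, hF, O, hR', Finset.mem_filter,
      Finset.mem_univ, true_and]
    constructor
    · rintro ⟨r, ⟨hr, hrf⟩, n, hn, rfl⟩
      refine ⟨(mem_normalizer_iff.1 hn r).1 (hR.mem r hr), fun hf => hrf ?_⟩
      have h3 : n * r * n⁻¹ = r := by
        have h4 := (mem_fixed.1 hf).2 n hn
        calc n * r * n⁻¹ = n⁻¹ * (n * (n * r * n⁻¹)) := by group
          _ = n⁻¹ * (n * r * n⁻¹ * n) := by rw [h4]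
          _ = r := by group
      rwa [h3] at hf
    · rintro ⟨hxP, hxf⟩
      obtain ⟨r, hr, t, ht, he⟩ := hR.exists_conj x hxP fun e1 => hxf (e1 ▸ one_mem _)
      have htN := Local.stab_le_normalizer _ ht
      refine ⟨r, ⟨hr, fun hrf => hxf ?_⟩, t⁻¹, inv_mem htN, by rw [← he]; group⟩
      have h4 := (mem_fixed.1 hrf).2 t htN
      have : x = r := by
        calc x = t⁻¹ * (t * x * t⁻¹) * t := by group
          _ = t⁻¹ * (r * t) := by rw [he]; group
          _ = t⁻¹ * (t * r) := by rw [h4]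
          _ = r := by group
      rwa [this]
  have h3 : (R' : Set G).PairwiseDisjoint O := by
    intro r hr s hs hne
    obtain ⟨hr, -⟩ := Finset.mem_filter.1 hr
    obtain ⟨hs, -⟩ := Finset.mem_filter.1 hs
    refine Finset.disjoint_left.2 fun x hxr hxs => hne ?_
    obtain ⟨-, n, hn, rfl⟩ := Finset.mem_filter.1 hxr
    obtain ⟨-, m, hm, he⟩ := Finset.mem_filter.1 hxs
    refine (hR.unique s hs r hr (n⁻¹ * m) (ElemNine.Local.mem_stab_princ
      (mul_mem (inv_mem hn) hm)) ?_).symm
    calc n⁻¹ * m * s * (n⁻¹ * m)⁻¹ = n⁻¹ * (m * s * m⁻¹) * n := by group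
      _ = n⁻¹ * (n * r * n⁻¹) * n := by rw [he]
      _ = r := by group
  have h4 := Finset.card_biUnion h3
  rw [Finset.sum_congr rfl hO, Finset.sum_const, smul_eq_mul, h2,
    Finset.card_sdiff_of_subset (fun x hx => by
      simp only [hT, hF, Finset.mem_filter, Finset.mem_univ, true_and] at hx ⊢
      exact fixed_le hx), hFcard, hTcard, hPcard, add_mul, one_mul, Nat.add_sub_cancel,
    mul_comm e z] at h4
  have h5 : R'.card = z := Nat.eq_of_mul_eq_mul_right h.prime.pos h4.symm
  rw [h1, Finset.card_erase_of_mem (by simp [hF]), hFcard, h5] at hk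
  rw [hk, hPcard]
  have hzpos : 0 < z := Nat.card_pos
  obtain ⟨y, hy⟩ : ∃ y, z = y + 1 := ⟨z - 1, by omega⟩
  rw [hy, Nat.add_sub_cancel]
  ring

/-- A quotient by a normal subgroup of odd order keeps the parity of the orders. -/
theorem two_dvd_orderOf_mk_iff (N : Subgroup G) [N.Normal] (hN : ¬ 2 ∣ Nat.card N) (g : G) :
    2 ∣ orderOf (QuotientGroup.mk' N g) ↔ 2 ∣ orderOf g := by
  refine ⟨fun h => h.trans (orderOf_map_dvd _ g), fun h => ?_⟩
  by_contra hc
  set j := orderOf (QuotientGroup.mk' N g)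
  have h1 : g ^ j ∈ N := by
    rw [← QuotientGroup.eq_one_iff, ← QuotientGroup.mk'_apply, map_pow]
    exact pow_orderOf_eq_one _
  have h2 : g ^ (j * Nat.card N) = 1 := by
    rw [pow_mul]
    exact congrArg Subtype.val (pow_card_eq_one' (x := (⟨_, h1⟩ : N)))
  exact Nat.prime_two.not_dvd_mul hc hN (h.trans (orderOf_dvd_of_pow_eq_one h2))

/-- **The invariants of the principal block.** -/
theorem Setup.main (h : Setup P e) {M : Ideal Cfsg.AlgInt} (hM : Cfsg.IsPModular 2 M) :
    Cfsg.blockRank 2 (Cfsg.principalBlock M G) = e ∧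
      (¬ Group.IsSolvable G → Nat.card (Cfsg.principalBlock M G) = Nat.card P) := by
  classical
  haveI : Fact (Nat.Prime 2) := ⟨Nat.prime_two⟩
  haveI := hM.2.1
  set O := Cfsg.pPrimeCore 2 G with hOdef
  let f := QuotientGroup.mk' O
  have hf : Function.Surjective f := QuotientGroup.mk'_surjective O
  have hO : ¬ 2 ∣ Nat.card O := Cores.not_dvd_card_pPrimeCore 2
  have hker : ¬ 2 ∣ Nat.card f.ker := by rwa [QuotientGroup.ker_mk']
  have hPO : ∀ x ∈ (P : Subgroup G), x ∈ O → x = 1 := fun x hx hxO => by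
    obtain ⟨a, ha⟩ := IsPGroup.iff_orderOf.1 P.2 ⟨x, hx⟩
    rw [Subgroup.orderOf_mk] at ha
    refine orderOf_eq_one_iff.1 (Nat.eq_one_of_dvd_coprimes
      ((Nat.prime_two.coprime_iff_not_dvd.2 hO).pow_left a) ha.dvd ?_)
    rw [← Subgroup.orderOf_mk x hxO]
    exact orderOf_dvd_natCard _
  have hbar : Setup (P.mapSurjective hf) e := by
    refine h.quotient f hf (Balance.map_normalizer_eq hf hker P.2) fun n hn hc =>
      mem_centralizer_iff.2 fun x hx => ?_
    refine (mul_inv_eq_iff_eq_mul.1 (mul_inv_eq_one.1 (hPO (n * x * n⁻¹ * x⁻¹)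
      (mul_mem ((mem_normalizer_iff.1 hn x).1 hx) (inv_mem hx))
      ((QuotientGroup.eq_one_iff _).1 ?_)))).symm
    show f (n * x * n⁻¹ * x⁻¹) = 1
    rw [map_mul, map_mul, map_mul, map_inv, map_inv, hc x hx]
    group
  obtain ⟨hrank, hcard⟩ := hbar.reduced (Cores.pPrimeCore_quotient_pPrimeCore 2) hM
  let i := BrauerMap.Inflation.infl f hf
  have hiv : ∀ (θ : Cfsg.IrrCharacter (G ⧸ O)) (g : G),
      (i θ : G → ℂ) g = (θ : G ⧸ O → ℂ) (f g) := fun θ g =>
    BrauerMap.Inflation.infl_apply f hf θ g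
  have hinj : Function.Injective i := fun a b hab => Subtype.ext <| funext fun y => by
    obtain ⟨g, rfl⟩ := hf y
    rw [← hiv, ← hiv, hab]
  have hone : BrauerMap.Inflation.infl f hf (oneChar (G ⧸ O)) = oneChar G := Subtype.ext rfl
  have himg : Cfsg.principalBlock M G = i '' Cfsg.principalBlock M (G ⧸ O) := by
    refine Set.Subset.antisymm (fun χ hχ => ?_) ?_
    · obtain ⟨θ, hθ⟩ := BrauerMap.Inflation.exists_infl f hf χ fun g hg =>
        PrincipalCore.Basic.trivialOn_core hM hχ g ((QuotientGroup.eq_one_iff g).mp hg)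
      refine ⟨θ, ?_, hθ⟩
      exact BrauerMap.Inflation.sameBlock_of_infl hM f hf hker (χ := oneChar _)
        (by rw [hone, hθ]; exact hχ)
    · rintro _ ⟨θ, hθ, rfl⟩
      have := BrauerMap.Inflation.sameBlock_infl f hf (χ := oneChar _) (ψ := θ) hθ
      rwa [hone] at this
  let L : (G ⧸ O → ℂ) →ₗ[ℂ] (G → ℂ) := LinearMap.funLeft ℂ ℂ f
  have hL : Function.Injective L := LinearMap.funLeft_injective_of_surjective ℂ ℂ _ hf
  have hrk : Cfsg.blockRank 2 (Cfsg.principalBlock M G) =
      Cfsg.blockRank 2 (Cfsg.principalBlock M (G ⧸ O)) := by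
    set W := Submodule.span ℂ ((fun θ : Cfsg.IrrCharacter (G ⧸ O) =>
      Cfsg.pRegularPart 2 (θ : G ⧸ O → ℂ)) '' Cfsg.principalBlock M (G ⧸ O))
    have he : W.map L = Submodule.span ℂ ((fun χ : Cfsg.IrrCharacter G =>
        Cfsg.pRegularPart 2 (χ : G → ℂ)) '' Cfsg.principalBlock M G) := by
      rw [Submodule.map_span, himg, Set.image_image, Set.image_image]
      congr 1
      refine Set.image_congr fun θ _ => funext fun g => ?_
      show Cfsg.pRegularPart 2 (θ : G ⧸ O → ℂ) (f g) = Cfsg.pRegularPart 2 (i θ : G → ℂ) g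
      rw [Blocks.Contrib.pRegularPart_apply, Blocks.Contrib.pRegularPart_apply, hiv,
        if_congr (two_dvd_orderOf_mk_iff O hO g) rfl rfl]
    show Module.finrank ℂ _ = Module.finrank ℂ W
    rw [← he]
    exact ((Submodule.equivMapOfInjective L hL W).finrank_eq).symm
  refine ⟨hrk.trans hrank, fun hns => ?_⟩
  rw [himg, Nat.card_image_of_injective hinj, hcard fun hs => hns (by
    haveI := hs
    haveI : Group.IsSolvable ↥O := Cfsg.Agent.S0205.result (Nat.coprime_two_left.1
      (Nat.prime_two.coprime_iff_not_dvd.2 hO))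
    exact Group.isSolvable_of_ker_le_range O.subtype f (by simp [f]))]
  show Nat.card ↥((P : Subgroup G).map f) = Nat.card ↥(P : Subgroup G)
  refine (Nat.card_congr (Equiv.ofBijective (f.subgroupMap (P : Subgroup G)) ⟨?_,
    f.subgroupMap_surjective _⟩)).symm
  refine (injective_iff_map_eq_one _).2 fun x hx => Subtype.ext (hPO x x.2 ?_)
  exact (QuotientGroup.eq_one_iff _).1 (congrArg Subtype.val hx)

end Cfsg.Agent.Lib.AbelianPrime79
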